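import Groth.Agent.DefFun.Basic
import Groth.Agent.ArtKit.Basic

/-!
# Automorphisms and injectivity of the comparison maps of a deformation functor
-/

set_option autoImplicit false
set_option linter.style.haveILetI false
set_option backward.isDefEq.respectTransparency false

universe u

open CategoryTheory CategoryTheory.Limits AlgebraicGeometry

noncomputable section

namespace Groth.Agent.DefFun

open ArtFun ArtFun.Art

variable {Λ k : Type u} [CommRing Λ] [Field k] [Algebra Λ k] {X : Scheme.{u}} {x : X ⟶ specPt k}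
variable {A A' A'' B : Art Λ k}

/-- A cartesian map of deformations over `g`. -/
structure Cart (g : A ⟶ B) (η : DefSch X x B) (ξ : DefSch X x A) where
  m : η.total ⟶ ξ.total
  h : IsPullback m η.f ξ.f (specMap g)
  hi : η.i ≫ m = ξ.i

/-- The base change is cartesian. -/
def cartBase (g : A ⟶ B) (ξ : DefSch X x A) : Cart g (ξ.baseChange g) ξ where
  m := pullback.fst ξ.f (specMap g)
  h := IsPullback.of_hasPullback _ _
  hi := DefSch.baseChange_i_fst ξ g

/-- Cartesian lifts over the same map are uniquely isomorphic. -/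
theorem exists_iso_of_cart {g : A ⟶ B} {η η' : DefSch X x B} {ξ ξ' : DefSch X x A} (c : Cart g η ξ) (c' : Cart g η' ξ')
    (θ : DefSch.Iso ξ ξ') : ∃ d : DefSch.Iso η η', d.iso.hom ≫ c'.m = c.m ≫ θ.iso.hom := by
  have hh : IsPullback (c.m ≫ θ.iso.hom) η.f ξ'.f (specMap g) :=
    c.h.of_iso (Iso.refl _) θ.iso (Iso.refl _) (Iso.refl _) (by simp) (by simp) (by simpa using θ.hom_f.symm) (by simp)
  refine ⟨⟨hh.isoIsPullback _ _ c'.h, IsPullback.isoIsPullback_hom_snd _ _ _ _, ?_⟩,
    IsPullback.isoIsPullback_hom_fst _ _ _ _⟩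
  apply c'.h.hom_ext
  · rw [Category.assoc, IsPullback.isoIsPullback_hom_fst, c'.hi, ← Category.assoc, c.hi, θ.i_hom]
  · rw [Category.assoc, IsPullback.isoIsPullback_hom_snd, η.i_f, η'.i_f]

theorem iso_hom_ext {ξ : DefSch X x A} {η : DefSch X x B} {g : A ⟶ B} (c : Cart g η ξ) {ζ : DefSch X x B}
    (d d' : DefSch.Iso ζ η) (h : d.iso.hom ≫ c.m = d'.iso.hom ≫ c.m) : d.iso.hom = d'.iso.hom :=
  c.h.hom_ext h (d.hom_f.trans d'.hom_f.symm)

theorem defIso_ext {ξ ξ' : DefSch X x A} {d d' : DefSch.Iso ξ ξ'} (h : d.iso.hom = d'.iso.hom) : d = d' := by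
  obtain ⟨i, p, q⟩ := d
  obtain ⟨i', p', q'⟩ := d'
  have : i = i' := CategoryTheory.Iso.ext h
  subst this; rfl

theorem baseChange_iso_fst {ξ ξ' : DefSch X x A} (d : DefSch.Iso ξ ξ') (g : A ⟶ B) :
    (d.baseChange g).iso.hom ≫ pullback.fst ξ'.f (specMap g) = pullback.fst ξ.f (specMap g) ≫ d.iso.hom :=
  DefSch.pullMap_fst _ d.hom_f g

section square

variable {p' : B ⟶ A'} {p'' : B ⟶ A''} {f' : A' ⟶ A} {f'' : A'' ⟶ A}

theorem square_w (h : IsFibreProd p' p'' f' f'') : specMap f'' ≫ specMap p'' = specMap f' ≫ specMap p' := by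
  rw [← specMap_comp, ← specMap_comp, h.w]

/-- The other leg of a restricted deformation over a fibre product. -/
def leg (h : IsFibreProd p' p'' f' f'') (ξ : DefSch X x B) :
    ((ξ.baseChange p'').baseChange f'').total ⟶ (ξ.baseChange p').total :=
  pullback.lift (pullback.fst (ξ.baseChange p'').f (specMap f'') ≫ pullback.fst ξ.f (specMap p''))
    (pullback.snd (ξ.baseChange p'').f (specMap f'') ≫ specMap f') (by
      rw [Category.assoc, pullback.condition, ← Category.assoc, pullback.condition, Category.assoc, Category.assoc,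
        square_w h])

theorem leg_fst (h : IsFibreProd p' p'' f' f'') (ξ : DefSch X x B) : leg h ξ ≫ pullback.fst ξ.f (specMap p') =
    pullback.fst (ξ.baseChange p'').f (specMap f'') ≫ pullback.fst ξ.f (specMap p'') := pullback.lift_fst _ _ _

/-- The other leg is cartesian. -/
def cartLeg (h : IsFibreProd p' p'' f' f'') (ξ : DefSch X x B) :
    Cart f' ((ξ.baseChange p'').baseChange f'') (ξ.baseChange p') where
  m := leg h ξ
  h := by
    refine IsPullback.of_right ?_ (pullback.lift_snd _ _ _) (IsPullback.of_hasPullback ξ.f (specMap p'))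
    rw [leg_fst, ← square_w h]
    exact IsPullback.paste_horiz (IsPullback.of_hasPullback _ _) (IsPullback.of_hasPullback ξ.f (specMap p''))
  hi := by
    apply pullback.hom_ext
    · rw [Category.assoc, leg_fst, ← Category.assoc, DefSch.baseChange_i_fst, DefSch.baseChange_i_fst,
        DefSch.baseChange_i_fst]
    · rw [Category.assoc, show leg h ξ ≫ pullback.snd ξ.f (specMap p') = _ from pullback.lift_snd _ _ _,
        ← Category.assoc]
      refine ((congrArg (· ≫ specMap f') (DefSch.baseChange_i_f (ξ.baseChange p'') f'')).trans ?_).trans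
        (DefSch.baseChange_i_f ξ p').symm
      rw [Category.assoc, specRes_comp]

/-- A deformation over a fibre product is the pushout of its restrictions. -/
theorem isPushout_restrict' (h : IsFibreProd p' p'' f' f'') (hs : Function.Surjective f'') (ξ : DefSch X x B) :
    IsPushout (pullback.fst (ξ.baseChange p'').f (specMap f'')) (leg h ξ) (pullback.fst ξ.f (specMap p''))
      (pullback.fst ξ.f (specMap p')) := by
  haveI : Flat ξ.f := ξ.flat
  haveI := isClosedImmersion_specMap f'' hs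
  haveI := surjective_specMap f''
  refine Pinch.isPushout_of_isPinch (Pinch.isPinch_baseChange_flat (Pinch.hasCharts_of_thickening _ _)
    (spec_square h hs) (𝟙 (spec B)) ξ.f (pP := ξ.f) (sPT := 𝟙 ξ.total)
    (IsPullback.of_vert_isIso ⟨by rw [Category.comp_id, Category.id_comp]⟩)
    (IsPullback.of_hasPullback ξ.f (specMap p'')).flip
    (IsPullback.of_hasPullback ξ.f (specMap p')).flip (pZ := pullback.snd (ξ.baseChange p'').f (specMap f'')) ?_ ?_ ?_)
  · exact (IsPullback.of_hasPullback (ξ.baseChange p'').f (specMap f'')).flip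
  · exact pullback.lift_snd _ _ _
  · exact leg_fst h ξ

/-- Liftable automorphisms make the comparison map injective. -/
theorem injective_cmp_of_lift (h : IsFibreProd p' p'' f' f'') (hs : Function.Surjective f'')
    (hl : ∀ ξ : DefSch X x A'', Function.Surjective fun e : ξ.Iso ξ => e.baseChange f'') :
    Function.Injective (cmp (defFunctor X x) h) := by
  intro a b hab
  induction a using Quotient.inductionOn with
  | h ξ =>
  induction b using Quotient.inductionOn with
  | h ξ' =>
  obtain ⟨d₁⟩ := Quotient.exact (s := DefSch.setoid X x A') (congrArg (fun t => t.1.1) hab)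
  obtain ⟨d₂⟩ := Quotient.exact (s := DefSch.setoid X x A'') (congrArg (fun t => t.1.2) hab)
  obtain ⟨t, ht⟩ := exists_iso_of_cart (cartLeg h ξ) (cartLeg h ξ') d₁
  obtain ⟨β, hβ⟩ := hl (ξ.baseChange p'') ((d₂.baseChange f'').trans t.symm)
  have hβ' : (β.baseChange f'').iso.hom = (d₂.baseChange f'').iso.hom ≫ t.iso.inv :=
    congrArg (fun e => e.iso.hom) hβ
  let d₂' := β.symm.trans d₂
  have key : (d₂'.baseChange f'').iso.hom = t.iso.hom := by
    have e1 : (d₂'.baseChange f'').iso.hom = (β.baseChange f'').iso.inv ≫ (d₂.baseChange f'').iso.hom := by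
      refine (cartBase f'' (ξ'.baseChange p'')).h.hom_ext ?_ ?_
      · show _ ≫ pullback.fst _ _ = _ ≫ pullback.fst _ _
        rw [baseChange_iso_fst, Category.assoc, baseChange_iso_fst, ← Category.assoc,
          show (β.baseChange f'').iso.inv ≫ pullback.fst (ξ.baseChange p'').f (specMap f'') =
            pullback.fst (ξ.baseChange p'').f (specMap f'') ≫ β.iso.inv from DefSch.pullMap_fst _ β.symm.hom_f f'',
          Category.assoc]
        rfl
      · exact ((d₂'.baseChange f'').hom_f).trans (((β.baseChange f'').symm.trans (d₂.baseChange f'')).hom_f).symm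
    rw [e1, Iso.inv_comp_eq, hβ', Category.assoc, Iso.inv_hom_id, Category.comp_id]
  have hw : ∀ {η η' : DefSch X x B} (e₁ : DefSch.Iso (η.baseChange p') (η'.baseChange p'))
      (e₂ : DefSch.Iso (η.baseChange p'') (η'.baseChange p'')),
      (e₂.baseChange f'').iso.hom ≫ leg h η' = leg h η ≫ e₁.iso.hom →
      pullback.fst (η.baseChange p'').f (specMap f'') ≫ e₂.iso.hom ≫ pullback.fst η'.f (specMap p'') =
        leg h η ≫ e₁.iso.hom ≫ pullback.fst η'.f (specMap p') := fun {η η'} e₁ e₂ he => by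
    rw [← Category.assoc, ← baseChange_iso_fst, Category.assoc, ← leg_fst h, ← Category.assoc, he, Category.assoc]
  have w := hw d₁ d₂' (by rw [key]; exact ht)
  have w' := hw d₁.symm d₂'.symm (by
    rw [show (d₂'.symm.baseChange f'').iso.hom = (d₂'.baseChange f'').iso.inv from rfl, Iso.inv_comp_eq,
      ← Category.assoc, key]
    show _ = (t.iso.hom ≫ leg h ξ') ≫ d₁.iso.inv
    rw [show t.iso.hom ≫ leg h ξ' = leg h ξ ≫ d₁.iso.hom from ht, Category.assoc, Iso.hom_inv_id, Category.comp_id])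
  have H := isPushout_restrict' h hs ξ
  have H' := isPushout_restrict' h hs ξ'
  let φ := H.desc _ _ w
  let ψ := H'.desc _ _ w'
  have hφψ : φ ≫ ψ = 𝟙 _ := by
    apply H.hom_ext <;> simp [φ, ψ, DefSch.Iso.symm]
  have hψφ : ψ ≫ φ = 𝟙 _ := by
    apply H'.hom_ext <;> simp [φ, ψ, DefSch.Iso.symm]
  refine Quotient.sound ⟨⟨⟨φ, ψ, hφψ, hψφ⟩, ?_, ?_⟩⟩
  · have c₁ : d₁.iso.hom ≫ pullback.snd ξ'.f (specMap p') = pullback.snd ξ.f (specMap p') := d₁.hom_f
    have c₂ : d₂'.iso.hom ≫ pullback.snd ξ'.f (specMap p'') = pullback.snd ξ.f (specMap p'') := d₂'.hom_f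
    apply H.hom_ext
    · rw [IsPushout.inl_desc_assoc, Category.assoc, pullback.condition, ← Category.assoc, c₂, pullback.condition]
    · rw [IsPushout.inr_desc_assoc, Category.assoc, pullback.condition, ← Category.assoc, c₁, pullback.condition]
  · show ξ.i ≫ φ = ξ'.i
    rw [← DefSch.baseChange_i_fst ξ p', Category.assoc, IsPushout.inr_desc, ← Category.assoc, d₁.i_hom,
      DefSch.baseChange_i_fst]

/-- Gluing, with its maps. -/
theorem exists_glue_cart (h : IsFibreProd p' p'' f' f'') (hs : Function.Surjective f'') (ξ₁ : DefSch X x A')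
    (ξ₂ : DefSch X x A'') (e : DefSch.Iso (ξ₁.baseChange f') (ξ₂.baseChange f'')) :
    ∃ (ξ : DefSch X x B) (c₁ : Cart p' ξ₁ ξ) (c₂ : Cart p'' ξ₂ ξ),
      pullback.fst ξ₂.f (specMap f'') ≫ c₂.m = e.iso.inv ≫ pullback.fst ξ₁.f (specMap f') ≫ c₁.m := by
  haveI := isClosedImmersion_specMap f'' hs
  haveI := surjective_specMap f''
  haveI : Flat ξ₁.f := ξ₁.flat
  haveI : Flat ξ₂.f := ξ₂.flat
  have hp := spec_square h hs
  let i' := pullback.fst ξ₂.f (specMap f'')
  let c := pullback.snd ξ₂.f (specMap f'')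
  let j' := e.iso.inv ≫ pullback.fst ξ₁.f (specMap f')
  haveI : IsClosedImmersion i' := inferInstanceAs (IsClosedImmersion (pullback.fst ξ₂.f (specMap f'')))
  haveI : Surjective i' := inferInstanceAs (Surjective (pullback.fst ξ₂.f (specMap f'')))
  haveI : IsAffineHom (pullback.fst ξ₁.f (specMap f')) := MorphismProperty.pullback_fst _ _ inferInstance
  haveI : IsAffineHom j' := inferInstanceAs (IsAffineHom (e.iso.inv ≫ pullback.fst ξ₁.f (specMap f')))
  have hX : IsPullback i' c ξ₂.f (specMap f'') := IsPullback.of_hasPullback _ _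
  have hY : IsPullback j' c ξ₁.f (specMap f') :=
    (IsPullback.of_hasPullback ξ₁.f (specMap f')).of_iso e.iso (Iso.refl _) (Iso.refl _) (Iso.refl _)
      (by simp [j']) (by simp [c]; exact e.hom_f.symm) (by simp) (by simp)
  have hc' : Pinch.HasCharts i' j' := Pinch.hasCharts_of_thickening i' j'
  obtain ⟨P, a', b', hp'⟩ := Pinch.exists_pinch hc'
  have hw : i' ≫ ξ₂.f ≫ specMap p'' = j' ≫ ξ₁.f ≫ specMap p' := by
    rw [← Category.assoc, hX.w, ← Category.assoc j', hY.w, Category.assoc, Category.assoc, Pinch.w_of_isPinch hp]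
  let hh : P ⟶ spec B := (Pinch.isPushout_of_isPinch hp').desc (ξ₂.f ≫ specMap p'') (ξ₁.f ≫ specMap p') hw
  have ha : a' ≫ hh = ξ₂.f ≫ specMap p'' := IsPushout.inl_desc _ _ _ hw
  have hb : b' ≫ hh = ξ₁.f ≫ specMap p' := IsPushout.inr_desc _ _ _ hw
  have hc : Pinch.HasCharts (specMap f'') (specMap f') := Pinch.hasCharts_of_thickening _ _
  obtain ⟨pa, pb⟩ := Pinch.isPullback_branches hc hp hc' hp' hX hY ha hb
  have hflat : Flat hh := Pinch.of_desc (M := @Flat) Pinch.desc_flat
    (RingHom.Flat.stableUnderComposition.stableUnderCompositionWithLocalizationAway RingHom.Flat.holdsForLocalizationAway).1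
    hc hp hc' hp' hX hY ha hb (fun U V e => HasRingHomProperty.appLE @Flat _ ξ₂.flat U V e)
    (fun U V e => HasRingHomProperty.appLE @Flat _ ξ₁.flat U V e)
  let zi := (ξ₂.baseChange f'').i
  have hzi : zi ≫ e.iso.inv = (ξ₁.baseChange f').i := by rw [Iso.comp_inv_eq]; exact e.i_hom.symm
  have hi : ξ₂.i ≫ a' = ξ₁.i ≫ b' := by
    rw [← DefSch.baseChange_i_fst ξ₂ f'', ← DefSch.baseChange_i_fst ξ₁ f', ← hzi]
    show (zi ≫ i') ≫ a' = ((zi ≫ e.iso.inv) ≫ pullback.fst ξ₁.f (specMap f')) ≫ b'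
    simp only [Category.assoc]
    rw [Pinch.w_of_isPinch hp']
    simp [j']
  let ξ : DefSch X x B :=
    { total := P
      f := hh
      flat := hflat
      i := ξ₁.i ≫ b'
      isPullback := specRes_comp p' ▸ ξ₁.isPullback.paste_horiz pb }
  refine ⟨ξ, ⟨b', pb, rfl⟩, ⟨a', pa, hi⟩, ?_⟩
  show i' ≫ a' = e.iso.inv ≫ pullback.fst ξ₁.f (specMap f') ≫ b'
  rw [Pinch.w_of_isPinch hp', Category.assoc]

theorem Cart.cl_eq {g : A ⟶ B} {η : DefSch X x B} {ξ : DefSch X x A} (c : Cart g η ξ) :
    (defFunctor X x).map g ξ.cl = η.cl := by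
  obtain ⟨d, -⟩ := exists_iso_of_cart (cartBase g ξ) c (DefSch.Iso.refl ξ)
  exact Quotient.sound ⟨d⟩

/-- Injectivity on `A' ×_A A'` makes automorphisms liftable along `A' → A`. -/
theorem lift_of_injective {p : A' ⟶ A} {q₁ q₂ : B ⟶ A'} (h : IsFibreProd q₁ q₂ p p) (hp : Function.Surjective p)
    (hinj : Function.Injective (cmp (defFunctor X x) h)) (ξ' : DefSch X x A') :
    Function.Surjective fun e : ξ'.Iso ξ' => e.baseChange p := by
  intro a
  obtain ⟨P₀, c₁, c₂, hc⟩ := exists_glue_cart h hp ξ' ξ' (DefSch.Iso.refl _)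
  obtain ⟨Pa, d₁, d₂, hd⟩ := exists_glue_cart h hp ξ' ξ' a
  obtain ⟨θ⟩ := Quotient.exact (s := DefSch.setoid X x B) (hinj (a₁ := Pa.cl) (a₂ := P₀.cl)
    (FibProd.ext (d₁.cl_eq.trans c₁.cl_eq.symm) (d₂.cl_eq.trans c₂.cl_eq.symm)))
  obtain ⟨b₁, hb₁⟩ := exists_iso_of_cart d₁ c₁ θ
  obtain ⟨b₂, hb₂⟩ := exists_iso_of_cart d₂ c₂ θ
  refine ⟨b₁.trans b₂.symm, defIso_ext ?_⟩
  let ι := pullback.fst ξ'.f (specMap p)
  have hc' : ι ≫ c₂.m = ι ≫ c₁.m := by
    have := hc
    simp only [DefSch.Iso.refl, Iso.refl_inv, Category.id_comp] at this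
    exact this
  have e2 : (b₂.baseChange p).iso.hom = ((a.symm).trans (b₁.baseChange p)).iso.hom := by
    refine iso_hom_ext (ξ := P₀) (g := q₁ ≫ p) ⟨ι ≫ c₁.m, by
      rw [specMap_comp]; exact (IsPullback.of_hasPullback _ _).paste_horiz c₁.h, by
      rw [← Category.assoc, DefSch.baseChange_i_fst, c₁.hi]⟩ (b₂.baseChange p) (a.symm.trans (b₁.baseChange p)) ?_
    show (b₂.baseChange p).iso.hom ≫ ι ≫ c₁.m = (a.iso.inv ≫ (b₁.baseChange p).iso.hom) ≫ ι ≫ c₁.m
    conv_lhs => rw [← hc', ← Category.assoc, baseChange_iso_fst, Category.assoc, hb₂, ← Category.assoc, hd]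
    simp only [Category.assoc]
    rw [← Category.assoc (DefSch.Iso.baseChange b₁ p).iso.hom, baseChange_iso_fst, Category.assoc, hb₁]
  refine iso_hom_ext (cartBase p ξ') ((b₁.trans b₂.symm).baseChange p) a ?_
  have e3 : (b₁.baseChange p).iso.hom ≫ (b₂.baseChange p).iso.inv = a.iso.hom := by
    rw [Iso.comp_inv_eq, e2]
    show _ = a.iso.hom ≫ a.iso.inv ≫ _
    rw [Iso.hom_inv_id_assoc]
  show _ ≫ pullback.fst _ _ = _ ≫ pullback.fst _ _
  rw [baseChange_iso_fst, ← e3, Category.assoc,
    show (b₂.baseChange p).iso.inv ≫ pullback.fst ξ'.f (specMap p) =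
      pullback.fst ξ'.f (specMap p) ≫ b₂.iso.inv from DefSch.pullMap_fst _ b₂.symm.hom_f p,
    ← Category.assoc (b₁.baseChange p).iso.hom, baseChange_iso_fst, Category.assoc]
  rfl

end square

end Groth.Agent.DefFun
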