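import Groth.Agent.Pinch.Lift
import Groth.Agent.Pinch.Spec
import Groth.Prelude.Def_ArtFun4
import Mathlib.RingTheory.RingHom.Flat

/-!
# Schlessinger's conditions for the deformation functor of a scheme

Deformations over a fibre product of Artinian rings are glued as pinched schemes.
-/

set_option autoImplicit false
set_option linter.style.haveILetI false
set_option backward.isDefEq.respectTransparency false

universe u

open CategoryTheory CategoryTheory.Limits AlgebraicGeometry

namespace Groth.Agent.DefFun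

open ArtFun ArtFun.Art

variable {Λ k : Type u} [CommRing Λ] [Field k] [Algebra Λ k]

theorem subsingleton_spec (A : Art Λ k) : Subsingleton (spec A) := by
  refine ⟨fun (a b : PrimeSpectrum A) => PrimeSpectrum.ext ?_⟩
  rw [IsLocalRing.eq_maximalIdeal (inferInstance : a.asIdeal.IsMaximal),
    IsLocalRing.eq_maximalIdeal (inferInstance : b.asIdeal.IsMaximal)]

theorem surjective_specMap {A B : Art Λ k} (g : A ⟶ B) : Surjective (specMap g) :=
  haveI := subsingleton_spec A
  ⟨fun _ => ⟨(Classical.arbitrary (PrimeSpectrum B) : PrimeSpectrum B), Subsingleton.elim _ _⟩⟩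

theorem isClosedImmersion_specMap {A B : Art Λ k} (g : A ⟶ B) (hg : Function.Surjective g) :
    IsClosedImmersion (specMap g) :=
  IsClosedImmersion.spec_of_surjective _ hg

/-- A fibre product of rings gives a pinching of their spectra. -/
theorem spec_square {B A A' A'' : Art Λ k} {p' : B ⟶ A'} {p'' : B ⟶ A''} {f' : A' ⟶ A} {f'' : A'' ⟶ A}
    (h : IsFibreProd p' p'' f' f'') (hs : Function.Surjective f'') :
    Pinch.IsPinch (specMap f'') (specMap f') (specMap p'') (specMap p') :=
  Pinch.spec_isPinch (CommRingCat.ofHom p'.toAlgHom.toRingHom) (CommRingCat.ofHom p''.toAlgHom.toRingHom)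
    (CommRingCat.ofHom f'.toAlgHom.toRingHom) (CommRingCat.ofHom f''.toAlgHom.toRingHom)
    (CommRingCat.hom_ext (RingHom.ext fun b => (h.w_apply b).symm)) hs h.surj h.inj

variable {X : Scheme.{u}} {x : X ⟶ specPt k}

theorem flat_of_field (x : X ⟶ specPt k) : Flat x := by
  haveI : Subsingleton (specPt k) := inferInstanceAs (Subsingleton (PrimeSpectrum k))
  infer_instance

variable (X x) in
theorem h0 : H0 (defFunctor (Λ := Λ) X x) := by
  have key : ∀ ξ : DefSch X x (base Λ k), Nonempty (DefSch.Iso (DefSch.self X x (flat_of_field x)) ξ) := fun ξ => by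
    haveI : IsIso ξ.i := ξ.isPullback.isIso_fst_of_isIso
    refine ⟨⟨asIso ξ.i, ?_, ?_⟩⟩
    · show ξ.i ≫ ξ.f = x
      rw [ξ.isPullback.w, comp_specRes_base]
    · show 𝟙 X ≫ ξ.i = ξ.i
      rw [Category.id_comp]
  refine ⟨⟨(DefSch.self X x (flat_of_field x)).cl⟩, ⟨fun a b => ?_⟩⟩
  induction a using Quotient.inductionOn with
  | h ξ =>
    induction b using Quotient.inductionOn with
    | h ξ' =>
      obtain ⟨e⟩ := key ξ
      obtain ⟨e'⟩ := key ξ'
      exact Quotient.sound ⟨e.symm.trans e'⟩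

/-- Deformations glue along a fibre product with one surjective map. -/
theorem exists_glue {B A A' A'' : Art Λ k} {p' : B ⟶ A'} {p'' : B ⟶ A''} {f' : A' ⟶ A} {f'' : A'' ⟶ A}
    (h : IsFibreProd p' p'' f' f'') (hs : Function.Surjective f'') (ξ₁ : DefSch X x A') (ξ₂ : DefSch X x A'')
    (e : DefSch.Iso (ξ₁.baseChange f') (ξ₂.baseChange f'')) :
    ∃ ξ : DefSch X x B, Nonempty (DefSch.Iso (ξ.baseChange p') ξ₁) ∧
      Nonempty (DefSch.Iso (ξ.baseChange p'') ξ₂) := by
  haveI := isClosedImmersion_specMap f'' hs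
  haveI := surjective_specMap f''
  haveI : Flat ξ₁.f := ξ₁.flat
  haveI : Flat ξ₂.f := ξ₂.flat
  have hp := spec_square h hs
  let i' := pullback.fst ξ₂.f (specMap f'')
  let c := pullback.snd ξ₂.f (specMap f'')
  let j' := e.iso.inv ≫ pullback.fst ξ₁.f (specMap f')
  haveI : IsClosedImmersion i' := inferInstanceAs (IsClosedImmersion (pullback.fst ξ₂.f (specMap f'')))
  haveI : Surjective i' := inferInstanceAs (Surjective (pullback.fst ξ₂.f (specMap f'')))
  haveI : IsAffineHom (pullback.fst ξ₁.f (specMap f')) := MorphismProperty.pullback_fst _ _ inferInstance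
  haveI : IsAffineHom j' := inferInstanceAs (IsAffineHom (e.iso.inv ≫ pullback.fst ξ₁.f (specMap f')))
  have hX : IsPullback i' c ξ₂.f (specMap f'') := IsPullback.of_hasPullback _ _
  have hY : IsPullback j' c ξ₁.f (specMap f') :=
    (IsPullback.of_hasPullback ξ₁.f (specMap f')).of_iso e.iso (Iso.refl _) (Iso.refl _) (Iso.refl _)
      (by simp [j']) (by simp [c]; exact e.hom_f.symm) (by simp) (by simp)
  have hc' : Pinch.HasCharts i' j' := Pinch.hasCharts_of_thickening i' j'
  obtain ⟨P, a', b', hp'⟩ := Pinch.exists_pinch hc'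
  have hw : i' ≫ ξ₂.f ≫ specMap p'' = j' ≫ ξ₁.f ≫ specMap p' := by
    rw [← Category.assoc, hX.w, ← Category.assoc j', hY.w, Category.assoc, Category.assoc, Pinch.w_of_isPinch hp]
  let hh : P ⟶ spec B := (Pinch.isPushout_of_isPinch hp').desc (ξ₂.f ≫ specMap p'') (ξ₁.f ≫ specMap p') hw
  have ha : a' ≫ hh = ξ₂.f ≫ specMap p'' := IsPushout.inl_desc _ _ _ hw
  have hb : b' ≫ hh = ξ₁.f ≫ specMap p' := IsPushout.inr_desc _ _ _ hw
  have hc : Pinch.HasCharts (specMap f'') (specMap f') := Pinch.hasCharts_of_thickening _ _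
  obtain ⟨pa, pb⟩ := Pinch.isPullback_branches hc hp hc' hp' hX hY ha hb
  have hflat : Flat hh := Pinch.of_desc (M := @Flat) Pinch.desc_flat
    (RingHom.Flat.stableUnderComposition.stableUnderCompositionWithLocalizationAway RingHom.Flat.holdsForLocalizationAway).1
    hc hp hc' hp' hX hY ha hb (fun U V e => HasRingHomProperty.appLE @Flat _ ξ₂.flat U V e)
    (fun U V e => HasRingHomProperty.appLE @Flat _ ξ₁.flat U V e)
  let zi := (ξ₂.baseChange f'').i
  have hzi : zi ≫ e.iso.inv = (ξ₁.baseChange f').i := by rw [Iso.comp_inv_eq]; exact e.i_hom.symm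
  have hi : ξ₂.i ≫ a' = ξ₁.i ≫ b' := by
    rw [← DefSch.baseChange_i_fst ξ₂ f'', ← DefSch.baseChange_i_fst ξ₁ f', ← hzi]
    show (zi ≫ i') ≫ a' = ((zi ≫ e.iso.inv) ≫ pullback.fst ξ₁.f (specMap f')) ≫ b'
    simp only [Category.assoc]
    rw [Pinch.w_of_isPinch hp']
    simp [j']
  let ξ : DefSch X x B :=
    { total := P
      f := hh
      flat := hflat
      i := ξ₁.i ≫ b'
      isPullback := specRes_comp p' ▸ ξ₁.isPullback.paste_horiz pb }
  refine ⟨ξ, ⟨⟨(pb.isoPullback).symm, ?_, ?_⟩⟩, ⟨⟨(pa.isoPullback).symm, ?_, ?_⟩⟩⟩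
  · exact pb.isoPullback_inv_snd
  · show (ξ.baseChange p').i ≫ pb.isoPullback.inv = ξ₁.i
    rw [Iso.comp_inv_eq]
    apply pullback.hom_ext
    · rw [DefSch.baseChange_i_fst, Category.assoc, IsPullback.isoPullback_hom_fst]
    · rw [Category.assoc, IsPullback.isoPullback_hom_snd]
      exact (DefSch.baseChange_i_f ξ p').trans ξ₁.i_f.symm
  · exact pa.isoPullback_inv_snd
  · show (ξ.baseChange p'').i ≫ pa.isoPullback.inv = ξ₂.i
    rw [Iso.comp_inv_eq]
    apply pullback.hom_ext
    · rw [DefSch.baseChange_i_fst, Category.assoc, IsPullback.isoPullback_hom_fst, hi]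
    · rw [Category.assoc, IsPullback.isoPullback_hom_snd]
      exact (DefSch.baseChange_i_f ξ p'').trans ξ₂.i_f.symm

variable (X x) in
theorem s1 : S1 (defFunctor (Λ := Λ) X x) := by
  intro B A A' A'' p' p'' f' f'' h hs z
  obtain ⟨⟨q₁, q₂⟩, hq⟩ := z
  induction q₁ using Quotient.inductionOn with
  | h ξ₁ =>
    induction q₂ using Quotient.inductionOn with
    | h ξ₂ =>
      obtain ⟨e⟩ := Quotient.exact (s := DefSch.setoid X x A) hq
      obtain ⟨ξ, ⟨e₁⟩, ⟨e₂⟩⟩ := exists_glue h hs ξ₁ ξ₂ e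
      exact ⟨ξ.cl, FibProd.ext (Quotient.sound ⟨e₁⟩) (Quotient.sound ⟨e₂⟩)⟩

/-- A deformation over `A' ×_k A''` is the pushout of its two restrictions. -/
theorem isPushout_restrict {B A' A'' : Art Λ k} {p' : B ⟶ A'} {p'' : B ⟶ A''}
    (h : IsFibreProd p' p'' (toBase A') (toBase A'')) (ξ : DefSch X x B) :
    IsPushout (ξ.baseChange p'').i (ξ.baseChange p').i (pullback.fst ξ.f (specMap p''))
      (pullback.fst ξ.f (specMap p')) := by
  haveI : Flat ξ.f := ξ.flat
  haveI : IsClosedImmersion (specMap (toBase A'')) := isClosedImmersion_specMap _ A''.res_surjective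
  haveI : IsClosedImmersion (specMap (toBase A')) := isClosedImmersion_specMap _ A'.res_surjective
  refine Pinch.isPushout_of_isPinch (Pinch.isPinch_baseChange_flat (Pinch.hasCharts_of_closed _ _)
    (spec_square h A''.res_surjective) (𝟙 (spec B)) ξ.f (pP := ξ.f) (sPT := 𝟙 ξ.total)
    (IsPullback.of_vert_isIso ⟨by rw [Category.comp_id, Category.id_comp]⟩)
    (IsPullback.of_hasPullback ξ.f (specMap p'')).flip
    (IsPullback.of_hasPullback ξ.f (specMap p')).flip (pZ := x) ?_ ?_ ?_)
  · exact (ξ.baseChange p'').isPullback.flip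
  · exact DefSch.baseChange_i_f ξ p'
  · rw [DefSch.baseChange_i_fst, DefSch.baseChange_i_fst]

theorem nonempty_iso_of_restrict {B A' A'' : Art Λ k} {p' : B ⟶ A'} {p'' : B ⟶ A''}
    (h : IsFibreProd p' p'' (toBase A') (toBase A'')) (ξ ξ' : DefSch X x B)
    (e₁ : DefSch.Iso (ξ.baseChange p') (ξ'.baseChange p'))
    (e₂ : DefSch.Iso (ξ.baseChange p'') (ξ'.baseChange p'')) : Nonempty (DefSch.Iso ξ ξ') := by
  have H := isPushout_restrict h ξ
  have H' := isPushout_restrict h ξ'
  have hw : ∀ {η η' : DefSch X x B} (d₁ : DefSch.Iso (η.baseChange p') (η'.baseChange p'))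
      (d₂ : DefSch.Iso (η.baseChange p'') (η'.baseChange p'')),
      (η.baseChange p'').i ≫ d₂.iso.hom ≫ pullback.fst η'.f (specMap p'') =
        (η.baseChange p').i ≫ d₁.iso.hom ≫ pullback.fst η'.f (specMap p') := by
    intro η η' d₁ d₂
    rw [← Category.assoc, d₂.i_hom, ← Category.assoc, d₁.i_hom, DefSch.baseChange_i_fst, DefSch.baseChange_i_fst]
  let φ := H.desc _ _ (hw e₁ e₂)
  let ψ := H'.desc _ _ (hw e₁.symm e₂.symm)
  have hφψ : φ ≫ ψ = 𝟙 _ := by
    apply H.hom_ext <;> simp [φ, ψ, DefSch.Iso.symm]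
  have hψφ : ψ ≫ φ = 𝟙 _ := by
    apply H'.hom_ext <;> simp [φ, ψ, DefSch.Iso.symm]
  refine ⟨⟨⟨φ, ψ, hφψ, hψφ⟩, ?_, ?_⟩⟩
  · have c₁ : e₁.iso.hom ≫ pullback.snd ξ'.f (specMap p') = pullback.snd ξ.f (specMap p') := e₁.hom_f
    have c₂ : e₂.iso.hom ≫ pullback.snd ξ'.f (specMap p'') = pullback.snd ξ.f (specMap p'') := e₂.hom_f
    apply H.hom_ext
    · rw [IsPushout.inl_desc_assoc, Category.assoc, pullback.condition, ← Category.assoc, c₂, pullback.condition]
    · rw [IsPushout.inr_desc_assoc, Category.assoc, pullback.condition, ← Category.assoc, c₁, pullback.condition]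
  · show ξ.i ≫ φ = ξ'.i
    rw [← DefSch.baseChange_i_fst ξ p', Category.assoc, IsPushout.inr_desc, ← Category.assoc, e₁.i_hom,
      DefSch.baseChange_i_fst]

variable (X x) in
theorem heps : Heps (defFunctor (Λ := Λ) X x) := by
  intro B A' p' p'' h
  refine ⟨fun a b hab => ?_, s1 X x p' p'' _ _ h (dual Λ k).res_surjective⟩
  induction a using Quotient.inductionOn with
  | h ξ =>
    induction b using Quotient.inductionOn with
    | h ξ' =>
      obtain ⟨e₁⟩ := Quotient.exact (s := DefSch.setoid X x A') (congrArg (fun t => t.1.1) hab)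
      obtain ⟨e₂⟩ := Quotient.exact (s := DefSch.setoid X x (dual Λ k)) (congrArg (fun t => t.1.2) hab)
      exact Quotient.sound (nonempty_iso_of_restrict h ξ ξ' e₁ e₂)

end Groth.Agent.DefFun
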