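import Groth.Agent.DefFun.Model
import Groth.Agent.ArtKit.HullExists

/-!
# First order deformations of an affine scheme
-/

set_option autoImplicit false
set_option linter.style.haveILetI false
set_option backward.isDefEq.respectTransparency false
set_option maxHeartbeats 1000000
set_option synthInstance.maxHeartbeats 100000

universe u

open CategoryTheory AlgebraicGeometry IsLocalRing TensorProduct TrivSqZeroExt

noncomputable section

namespace Groth.Agent.DefFun

open ArtFun ArtFun.Art ArtKit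

variable {Λ k : Type u} [CommRing Λ] [Field k] [Algebra Λ k]
variable (P A₀ : Type u) [CommRing P] [CommRing A₀] [Algebra k P] [Algebra P A₀] [Algebra k A₀]

/-- The ideal of a presentation. -/
abbrev kerI : Ideal P := RingHom.ker (algebraMap P A₀)

/-- `d` first order directions. -/
abbrev Dir (d : ℕ) : Type u := Fin d → A₀

/-- The right action equal to the left one. -/
abbrev opModule : Module Pᵐᵒᵖ A₀ := Module.compHom A₀ ((RingHom.id P).fromOpposite mul_comm)

theorem centralScalar : @IsCentralScalar P A₀ _ (opModule P A₀).toSMul :=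
  letI := opModule P A₀
  ⟨fun _ _ => rfl⟩

variable [Module Pᵐᵒᵖ A₀] [IsCentralScalar P A₀]
variable {P A₀} [IsScalarTower k P A₀] {d : ℕ} (Φ : Fin d → (kerI P A₀ →ₗ[P] A₀))

/-- The relations of the first order deformation of `Φ`. -/
def relN : Ideal (TrivSqZeroExt P (Fin d → A₀)) where
  carrier := {z | ∃ i : kerI P A₀, fst z = i ∧ snd z = fun j => -Φ j i}
  add_mem' := by
    rintro z z' ⟨i, h1, h2⟩ ⟨i', h1', h2'⟩
    exact ⟨i + i', by simp [h1, h1'], by funext j; simp [h2, h2', add_comm]⟩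
  zero_mem' := ⟨0, by simp, by funext j; simp⟩
  smul_mem' := by
    rintro c z ⟨i, h1, h2⟩
    refine ⟨fst c • i, by simp [h1], ?_⟩
    funext j
    rw [smul_eq_mul, TrivSqZeroExt.snd_mul, op_smul_eq_smul, Pi.add_apply, Pi.smul_apply, Pi.smul_apply, h1, h2,
      map_smul, Algebra.smul_def (i : P), RingHom.mem_ker.1 i.2, zero_mul, add_zero, smul_neg]

/-- The first order deformation ring. -/
abbrev FO : Type u := TrivSqZeroExt P (Fin d → A₀) ⧸ relN Φ

variable (k P A₀ d) in
/-- The first order thickening of the coefficients. -/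
def foE : TrivSqZeroExt k (Fin d → k) →+* TrivSqZeroExt P (Fin d → A₀) where
  toFun x := inl (algebraMap k P (fst x)) + inr (fun j => algebraMap k A₀ (snd x j))
  map_one' := TrivSqZeroExt.ext (by simp) (funext fun j => by simp)
  map_zero' := TrivSqZeroExt.ext (by simp) (funext fun j => by simp)
  map_add' x y := TrivSqZeroExt.ext (by simp) (funext fun j => by simp)
  map_mul' x y := TrivSqZeroExt.ext (by simp) (funext fun j => by
    simp [op_smul_eq_smul, Algebra.smul_def, ← IsScalarTower.algebraMap_apply k P A₀])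

@[simp] theorem fst_foE (x : TrivSqZeroExt k (Fin d → k)) : fst (foE k P A₀ d x) = algebraMap k P (fst x) := by
  simp [foE]

@[simp] theorem snd_foE (x : TrivSqZeroExt k (Fin d → k)) (j : Fin d) :
    snd (foE k P A₀ d x) j = algebraMap k A₀ (snd x j) := by
  simp [foE]

theorem foE_inr (v : Fin d → k) :
    foE k P A₀ d (inr v) = inr (fun j => algebraMap k A₀ (v j)) :=
  TrivSqZeroExt.ext (by simp) (funext fun j => by simp)

variable (k) in
/-- Its structure map. -/
abbrev foMap : TrivSqZeroExt k (Fin d → k) →+* FO Φ :=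
  (Ideal.Quotient.mk _).comp (foE k P A₀ d)

/-- Reduction to the closed fibre. -/
def foQ : FO Φ →+* A₀ :=
  Ideal.Quotient.lift _ ((algebraMap P A₀).comp (TrivSqZeroExt.fstHom P P (Fin d → A₀)).toRingHom) (by
    rintro z ⟨i, h1, -⟩
    show algebraMap P A₀ (fst z) = 0
    rw [h1]; exact i.2)

variable (hπ : Function.Surjective (algebraMap P A₀))
include hπ

omit [IsScalarTower k P A₀] in
theorem mk_inr_mul (w : Fin d → A₀) (a : A₀) (p : P) (hp : algebraMap P A₀ p = a) :
    Ideal.Quotient.mk (relN Φ) (inr w) * Ideal.Quotient.mk _ (inl p) =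
      Ideal.Quotient.mk _ (inr fun j => a * w j) := by
  rw [← map_mul, inr_mul_inl]
  congr 2
  funext j
  rw [Pi.smul_apply, op_smul_eq_smul, Algebra.smul_def, hp]

theorem fo_flat : (foMap k Φ).Flat := by
  classical
  obtain ⟨s, hs⟩ := LinearMap.exists_rightInverse_of_surjective (IsScalarTower.toAlgHom k P A₀).toLinearMap
    (LinearMap.range_eq_top.2 hπ)
  have hs' : ∀ a, algebraMap P A₀ (s a) = a := fun a => LinearMap.congr_fun hs a
  let R := TrivSqZeroExt k (Fin d → k)
  letI : Algebra R (FO Φ) := (foMap k Φ).toAlgebra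
  haveI : IsScalarTower k R (FO Φ) := IsScalarTower.of_algebraMap_eq (R := k) (S := R) (A := FO Φ) fun c => by
    show Ideal.Quotient.mk _ (algebraMap k (TrivSqZeroExt P (Fin d → A₀)) c) =
      Ideal.Quotient.mk _ (foE k P A₀ d (algebraMap k (TrivSqZeroExt k (Fin d → k)) c))
    congr 1
    refine TrivSqZeroExt.ext ?_ (funext fun j => ?_)
    · simp [algebraMap_eq_inl']
    · simp [algebraMap_eq_inl']
  let g : A₀ →ₗ[k] FO Φ :=
    { toFun := fun a => Ideal.Quotient.mk _ (inl (s a))
      map_add' := fun a b => by rw [map_add, inl_add, map_add]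
      map_smul' := fun c a => by
        show _ = Ideal.Quotient.mk (relN Φ) (c • inl (s a))
        rw [map_smul]
        congr 1
        exact TrivSqZeroExt.ext rfl (funext fun j => by simp) }
  let e : Fin d → R := fun j => (inr (Pi.single j 1) : TrivSqZeroExt k (Fin d → k))
  let f := g.liftBaseChange R
  let hW : (Fin d → A₀) → R ⊗[k] A₀ := fun w => ∑ j, e j ⊗ₜ w j
  have hf1 : ∀ a, f (1 ⊗ₜ a) = Ideal.Quotient.mk _ (inl (s a)) := fun a => by
    simp [f, g]
  have hfe : ∀ j a, f (e j ⊗ₜ a) = Ideal.Quotient.mk _ (inr (Pi.single j a)) := fun j a => by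
    rw [LinearMap.liftBaseChange_tmul]
    show Ideal.Quotient.mk (relN Φ) (foE k P A₀ d (inr (Pi.single j 1))) * Ideal.Quotient.mk _ (inl (s a)) = _
    rw [foE_inr, mk_inr_mul Φ hπ _ a (s a) (hs' a)]
    congr 2
    funext i
    rcases eq_or_ne i j with rfl | hij
    · simp
    · simp [Pi.single_eq_of_ne hij]
  have hfW : ∀ w, f (hW w) = Ideal.Quotient.mk _ (inr w) := fun w => by
    simp only [hW, map_sum, hfe]
    rw [← map_sum, ← inr_sum, Finset.univ_sum_single]
  have hdec : ∀ z : R ⊗[k] A₀, ∃ a w, z = 1 ⊗ₜ a + hW w := by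
    intro z
    induction z using TensorProduct.induction_on with
    | zero => exact ⟨0, 0, by simp [hW]⟩
    | tmul r a =>
      let r' : TrivSqZeroExt k (Fin d → k) := r
      refine ⟨fst r' • a, fun j => snd r' j • a, ?_⟩
      have hr : r = (fst r' • (1 : R)) + ∑ j, snd r' j • e j := by
        show r' = (fst r' • (1 : TrivSqZeroExt k (Fin d → k))) +
          ∑ j, snd r' j • (inr (Pi.single j 1) : TrivSqZeroExt k (Fin d → k))
        refine TrivSqZeroExt.ext ?_ (funext fun i => ?_)
        · simp [fst_sum]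
        · simp [snd_sum, Pi.single_apply, Finset.sum_apply]
      conv_lhs => rw [hr]
      simp only [hW, add_tmul, sum_tmul, smul_tmul]
    | add z z' hz hz' =>
      obtain ⟨a, w, rfl⟩ := hz
      obtain ⟨a', w', rfl⟩ := hz'
      refine ⟨a + a', w + w', ?_⟩
      simp only [hW, Pi.add_apply, tmul_add, Finset.sum_add_distrib]
      abel
  have hinj : Function.Injective f := by
    rw [injective_iff_map_eq_zero]
    intro z hz
    obtain ⟨a, w, rfl⟩ := hdec z
    rw [map_add, hf1, hfW, ← map_add, Ideal.Quotient.eq_zero_iff_mem] at hz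
    obtain ⟨i, h1, h2⟩ := hz
    rw [fst_add, fst_inl, fst_inr, add_zero] at h1
    have ha : a = 0 := by rw [← hs' a, h1]; exact i.2
    subst ha
    have hi : i = 0 := Subtype.ext (by rw [← h1, map_zero]; rfl)
    subst hi
    have hw : w = 0 := by
      funext j
      have := congrFun h2 j
      simpa using this
    subst hw
    simp [hW]
  have hsurj : Function.Surjective f := by
    intro y
    obtain ⟨z, rfl⟩ := Ideal.Quotient.mk_surjective y
    let i : kerI P A₀ := ⟨fst z - s (algebraMap P A₀ (fst z)), by rw [RingHom.mem_ker, map_sub, hs', sub_self]⟩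
    refine ⟨1 ⊗ₜ algebraMap P A₀ (fst z) + hW (fun j => snd z j + Φ j i), ?_⟩
    rw [map_add, hf1, hfW, ← map_add, Ideal.Quotient.eq]
    refine ⟨-i, ?_, funext fun j => ?_⟩
    · simp [i]
    · simp
  show Module.Flat R (FO Φ)
  exact Module.Flat.of_linearEquiv (LinearEquiv.ofBijective f ⟨hinj, hsurj⟩).symm

theorem fo_ker : RingHom.ker (foQ Φ) =
    (maximalIdeal (dualN Λ k d)).map (foMap k Φ : dualN Λ k d →+* FO Φ) := by
  classical
  refine le_antisymm (fun z hz => ?_) (Ideal.map_le_iff_le_comap.2 fun r hr => ?_)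
  · obtain ⟨z, rfl⟩ := Ideal.Quotient.mk_surjective z
    have hz' : fst z ∈ kerI P A₀ := hz
    obtain ⟨w, hw⟩ : ∃ w, Ideal.Quotient.mk (relN Φ) z = Ideal.Quotient.mk _ (inr w) :=
      ⟨fun j => snd z j + Φ j ⟨_, hz'⟩, by
        rw [Ideal.Quotient.eq]
        exact ⟨⟨_, hz'⟩, by simp, funext fun j => by simp⟩⟩
    rw [hw, ← Finset.univ_sum_single w, inr_sum, map_sum]
    refine sum_mem fun j _ => ?_
    obtain ⟨p, hp⟩ := hπ (w j)
    have := Ideal.mul_mem_right (Ideal.Quotient.mk _ (inl p)) _ (Ideal.mem_map_of_mem (foMap k Φ : dualN Λ k d →+* FO Φ)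
      ((dualN Λ k d).mem_maximalIdeal_iff ((inr (Pi.single j 1) : TrivSqZeroExt k (Fin d → k)) : dualN Λ k d) |>.2 rfl))
    rw [show foMap k Φ ((inr (Pi.single j 1) : TrivSqZeroExt k (Fin d → k)) : dualN Λ k d) =
        Ideal.Quotient.mk _ (inr fun i => algebraMap k A₀ ((Pi.single j 1 : Fin d → k) i)) from
      congrArg (Ideal.Quotient.mk _) (foE_inr _), mk_inr_mul Φ hπ _ _ p hp] at this
    refine Eq.mp (congrArg (· ∈ _) (congrArg (Ideal.Quotient.mk _) (congrArg inr (funext fun i => ?_)))) this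
    rcases eq_or_ne i j with rfl | hij
    · simp
    · simp [Pi.single_eq_of_ne hij]
  · rw [Ideal.mem_comap, RingHom.mem_ker]
    show algebraMap P A₀ (fst (foE k P A₀ d r)) = 0
    have : fst (show TrivSqZeroExt k (Fin d → k) from r) = 0 := ((dualN Λ k d).mem_maximalIdeal_iff r).1 hr
    rw [fst_foE]
    exact ((congrArg (fun c => algebraMap P A₀ (algebraMap k P c)) this).trans (by rw [map_zero, map_zero]))

variable (Λ) in
/-- The first order deformation of `Φ`. -/
def fo : Model A₀ (dualN Λ k d) where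
  T := FO Φ
  φ := foMap k Φ
  flat := fo_flat Φ hπ
  q := foQ Φ
  surj a := ⟨Ideal.Quotient.mk _ (inl (hπ a).choose), (hπ a).choose_spec⟩
  ker := fo_ker Φ hπ
  w := RingHom.ext fun r => by
    show algebraMap P A₀ (fst (foE k P A₀ d r)) = algebraMap k A₀ (fst (show TrivSqZeroExt k (Fin d → k) from r))
    rw [fst_foE]
    exact (IsScalarTower.algebraMap_apply k P A₀ _).symm

/-- Linear combinations, corrected by a derivation, are base changes. -/
theorem map_fo (φ : kerI P A₀ →ₗ[P] A₀) (a : Fin d → k) (D : Derivation k P A₀)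
    (h : ∀ i : kerI P A₀, φ i = (∑ j, a j • Φ j i) - D i) (m : dualN Λ k d ⟶ dualN Λ k 1)
    (hm : ∀ x : TrivSqZeroExt k (Fin d → k), (m.toAlgHom x : TrivSqZeroExt k (Fin 1 → k)) =
      (fst x, fun _ => ∑ j, a j * snd x j)) :
    (defFunctor _ _).map m (fo Λ Φ hπ).cl = (fo Λ (fun _ : Fin 1 => φ) hπ).cl := by
  have hD : ∀ p q : P, D (p * q) = p • D q + q • D p := D.leibniz
  let E : TrivSqZeroExt P (Fin d → A₀) →+* TrivSqZeroExt P (Fin 1 → A₀) :=
    { toFun := fun z => (fst z, fun _ => (∑ j, a j • snd z j) + D (fst z))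
      map_one' := TrivSqZeroExt.ext rfl (funext fun _ => by
        show (∑ j, a j • snd (1 : TrivSqZeroExt P (Fin d → A₀)) j) + D (fst (1 : TrivSqZeroExt P (Fin d → A₀))) = 0
        simp)
      map_zero' := TrivSqZeroExt.ext rfl (funext fun _ => by
        show (∑ j, a j • snd (0 : TrivSqZeroExt P (Fin d → A₀)) j) + D (fst (0 : TrivSqZeroExt P (Fin d → A₀))) = 0
        simp)
      map_add' := fun z z' => TrivSqZeroExt.ext rfl (funext fun _ => by
        show (∑ j, a j • snd (z + z') j) + D (fst (z + z')) =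
          ((∑ j, a j • snd z j) + D (fst z)) + ((∑ j, a j • snd z' j) + D (fst z'))
        simp only [snd_add, fst_add, Pi.add_apply, smul_add, Finset.sum_add_distrib, map_add]
        abel)
      map_mul' := fun z z' => TrivSqZeroExt.ext rfl (funext fun _ => by
        show (∑ j, a j • (fst z • snd z' j + MulOpposite.op (fst z') • snd z j)) + D (fst z * fst z') =
          fst z • ((∑ j, a j • snd z' j) + D (fst z')) + MulOpposite.op (fst z') • ((∑ j, a j • snd z j) + D (fst z))
        simp only [op_smul_eq_smul, smul_add, Finset.sum_add_distrib, Finset.smul_sum, hD]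
        rw [Finset.sum_congr rfl fun j _ => smul_comm (a j) (fst z) (snd z' j),
          Finset.sum_congr rfl fun j _ => smul_comm (a j) (fst z') (snd z j)]
        abel) }
  have hE : ∀ z ∈ relN Φ, (Ideal.Quotient.mk (relN fun _ : Fin 1 => φ)).comp E z = 0 := by
    rintro z ⟨i, h1, h2⟩
    rw [RingHom.comp_apply, Ideal.Quotient.eq_zero_iff_mem]
    refine ⟨i, h1, funext fun _ => ?_⟩
    show (∑ j, a j • snd z j) + D (fst z) = -φ i
    rw [h, h1, h2]
    simp only [smul_neg, Finset.sum_neg_distrib, neg_sub]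
    abel
  refine Model.map_cl m (fo Λ Φ hπ) (fo Λ (fun _ : Fin 1 => φ) hπ) (Ideal.Quotient.lift (relN Φ) _ hE) ?_ ?_
  · refine RingHom.ext fun x => ?_
    show Ideal.Quotient.mk _ (E _) = Ideal.Quotient.mk _ _
    congr 1
    let x' : TrivSqZeroExt k (Fin d → k) := x
    refine TrivSqZeroExt.ext ?_ (funext fun i => ?_)
    · show fst (foE k P A₀ d x') = fst (foE k P A₀ 1 (m.toAlgHom x))
      rw [fst_foE, fst_foE, hm x']; rfl
    · show (∑ j, a j • snd (foE k P A₀ d x') j) + D (fst (foE k P A₀ d x')) = snd (foE k P A₀ 1 (m.toAlgHom x)) i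
      rw [snd_foE, fst_foE, hm x', Derivation.map_algebraMap, add_zero]
      show _ = algebraMap k A₀ (∑ j, a j * snd x' j)
      simp [map_sum, Algebra.smul_def]
  · refine Ideal.Quotient.ringHom_ext (RingHom.ext fun z => ?_)
    rfl

/-- Every first order deformation comes from a homomorphism on the ideal. -/
theorem exists_fo_eq (hfree : ∀ (T : Type u) [CommRing T] [Algebra k T] (q : T →ₐ[k] A₀), Function.Surjective q →
    ∃ ψ : P →ₐ[k] T, q.comp ψ = IsScalarTower.toAlgHom k P A₀)
    (M : Model A₀ (dualN Λ k 1)) :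
    ∃ φ : kerI P A₀ →ₗ[P] A₀, (fo Λ (fun _ : Fin 1 => φ) hπ).cl = M.cl := by
  classical
  let R := TrivSqZeroExt k (Fin 1 → k)
  haveI : IsLocalRing R := Art.isLocalRing_tsze k _
  haveI : IsArtinianRing R := Art.isArtinianRing_tsze k _
  let φR : R →+* M.T := M.φ
  letI : Algebra R M.T := φR.toAlgebra
  letI : Algebra k M.T := (φR.comp (algebraMap k R)).toAlgebra
  haveI : Module.Flat R M.T := M.flat
  have mker : RingHom.ker M.q = (maximalIdeal R).map φR := M.ker
  have hmem : ∀ r : R, r ∈ maximalIdeal R ↔ fst r = 0 := fun r => (dualN Λ k 1).mem_maximalIdeal_iff r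
  let qA : M.T →ₐ[k] A₀ := { M.q with commutes' := fun c => RingHom.congr_fun M.w _ }
  obtain ⟨ψ, hψ⟩ := hfree M.T qA M.surj
  have hψq : ∀ p, M.q (ψ p) = algebraMap P A₀ p := AlgHom.congr_fun hψ
  let e0 : R := (inr (fun _ => 1) : TrivSqZeroExt k (Fin 1 → k))
  have he0 : e0 ∈ maximalIdeal R := (hmem _).2 rfl
  let ε : M.T := φR e0
  have hee : ε * ε = 0 := by
    rw [← map_mul, show e0 * e0 = 0 from inr_mul_inr k _ _, map_zero]
  have hεq : M.q ε = 0 := by
    rw [← RingHom.mem_ker, mker]; exact Ideal.mem_map_of_mem _ he0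
  have hgen : ∀ r ∈ maximalIdeal R, ∃ c, r = c * e0 := fun r hr => by
    let r' : TrivSqZeroExt k (Fin 1 → k) := r
    refine ⟨(inl (snd r' 0) : TrivSqZeroExt k (Fin 1 → k)), ?_⟩
    show r' = inl (snd r' 0) * inr (fun _ => 1)
    refine TrivSqZeroExt.ext ?_ (funext fun i => ?_)
    · rw [fst_mul, fst_inr, mul_zero]; exact (hmem r).1 hr
    · rw [Subsingleton.elim i 0, inl_mul_inr, snd_inr]; simp
  have hkerε : ∀ t, M.q t = 0 → ∃ t', t = ε * t' := fun t ht => by
    have h1 : t ∈ (maximalIdeal R).map φR := mker ▸ RingHom.mem_ker.2 ht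
    have h2 : (maximalIdeal R).map φR ≤ Ideal.span {ε} := by
      rw [Ideal.map_le_iff_le_comap]
      intro r hr
      obtain ⟨c, rfl⟩ := hgen r hr
      rw [Ideal.mem_comap, map_mul]
      exact Ideal.mul_mem_left _ _ (Ideal.mem_span_singleton_self ε)
    obtain ⟨t', rfl⟩ := Ideal.mem_span_singleton'.1 (h2 h1)
    exact ⟨t', mul_comm _ _⟩
  haveI : Module.Free R M.T := ArtFlat.free_coker ArtFlat.isNilpotent_maximalIdeal (0 : PUnit.{u+1} →ₗ[R] M.T)
    LinearMap.id Function.surjective_id (fun y => by simp [eq_comm]) (fun a b _ => Subsingleton.elim a b)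
  have hann : ∀ t, ε * t = 0 → M.q t = 0 := fun t ht => by
    let b := Module.Free.chooseBasis R M.T
    rw [← RingHom.mem_ker, mker, ← b.linearCombination_repr t, Finsupp.linearCombination_apply, Finsupp.sum]
    refine sum_mem fun l _ => Ideal.mul_mem_right _ _ (Ideal.mem_map_of_mem _ ?_)
    have h1 : e0 * b.repr t l = 0 := by
      have h2 : e0 • t = 0 := ht
      have h3 := congrArg (fun y => b.repr y l) h2
      simpa using h3
    let c : TrivSqZeroExt k (Fin 1 → k) := b.repr t l
    rw [hmem]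
    have h4 : inr (fun _ => 1) * c = 0 := h1
    have h5 := congrFun (congrArg snd h4) 0
    simpa using h5
  have hεlift : ∀ t t', M.q t = M.q t' → ε * t = ε * t' := fun t t' h => by
    obtain ⟨z, hz⟩ := hkerε (t - t') (by rw [map_sub, h, sub_self])
    rw [← sub_eq_zero, ← mul_sub, hz, ← mul_assoc, hee, zero_mul]
  choose L hL using M.surj
  choose q' hq' using fun i : kerI P A₀ => hkerε (ψ i) (by rw [hψq]; exact i.2)
  have huniq : ∀ a b, ε * L a = ε * L b → a = b := fun a b h => by
    have := hann (L a - L b) (by rw [mul_sub, h, sub_self])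
    rwa [map_sub, hL, hL, sub_eq_zero] at this
  let φ : kerI P A₀ →ₗ[P] A₀ :=
    { toFun := fun i => M.q (q' i)
      map_add' := fun i i' => by
        refine huniq _ _ ?_
        rw [hεlift (L _) (q' (i + i')) (hL _), hεlift (L _) (q' i + q' i') (by rw [hL, map_add]), mul_add,
          ← hq', ← hq', ← hq', Submodule.coe_add, map_add]
      map_smul' := fun p i => by
        refine huniq _ _ ?_
        rw [hεlift (L _) (q' (p • i)) (hL _),
          hεlift (L _) (ψ p * q' i) (by rw [hL, map_mul, hψq, RingHom.id_apply, Algebra.smul_def]),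
          mul_left_comm, ← hq', ← hq', Submodule.coe_smul_of_tower, smul_eq_mul, map_mul] }
  refine ⟨φ, ?_⟩
  have hw : ∀ a b, ε * L (a + b) = ε * L a + ε * L b := fun a b => by
    rw [← mul_add]; exact hεlift _ _ (by rw [hL, map_add, hL, hL])
  have hw0 : ε * L 0 = 0 := by rw [hεlift (L 0) 0 (by rw [hL, map_zero]), mul_zero]
  let E : TrivSqZeroExt P (Fin 1 → A₀) →+* M.T :=
    { toFun := fun z => ψ (fst z) + ε * L (snd z 0)
      map_one' := by rw [fst_one, map_one, snd_one, Pi.zero_apply, hw0, add_zero]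
      map_zero' := by rw [fst_zero, map_zero, snd_zero, Pi.zero_apply, hw0, add_zero]
      map_add' := fun z z' => by
        rw [fst_add, map_add, snd_add, Pi.add_apply, hw]; ring
      map_mul' := fun z z' => by
        rw [fst_mul, map_mul, TrivSqZeroExt.snd_mul, Pi.add_apply, Pi.smul_apply, Pi.smul_apply, op_smul_eq_smul,
          Algebra.smul_def, Algebra.smul_def, hw,
          hεlift (L (algebraMap P A₀ (fst z) * snd z' 0)) (ψ (fst z) * L (snd z' 0)) (by
            rw [hL, map_mul, hψq, hL]),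
          hεlift (L (algebraMap P A₀ (fst z') * snd z 0)) (ψ (fst z') * L (snd z 0)) (by
            rw [hL, map_mul, hψq, hL])]
        linear_combination (-(L (snd z 0) * L (snd z' 0))) * hee }
  have hE : ∀ z ∈ relN (fun _ : Fin 1 => φ), E z = 0 := by
    rintro z ⟨i, h1, h2⟩
    show ψ (fst z) + ε * L (snd z 0) = 0
    rw [h1, h2, hεlift (L (-φ i)) (-q' i) (by rw [hL, map_neg]; rfl), hq']
    ring
  have hmapid := Model.map_cl (𝟙 (dualN Λ k 1)) (fo Λ (fun _ : Fin 1 => φ) hπ) M (Ideal.Quotient.lift _ E hE) ?_ ?_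
  · rwa [CategoryTheory.Functor.map_id] at hmapid
  · refine RingHom.ext fun x => ?_
    let x' : TrivSqZeroExt k (Fin 1 → k) := x
    show ψ (fst (foE k P A₀ 1 x')) + ε * L (snd (foE k P A₀ 1 x') 0) = φR x'
    rw [fst_foE, snd_foE]
    have hc : ∀ c, M.q (algebraMap k M.T c) = algebraMap k A₀ c := qA.commutes
    rw [ψ.commutes, hεlift (L _) (algebraMap k M.T (snd x' 0)) (by rw [hL, hc])]
    show φR _ + φR e0 * φR _ = φR x'
    rw [← map_mul, ← map_add]
    congr 1
    show algebraMap k (TrivSqZeroExt k (Fin 1 → k)) (fst x') +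
      (inr (fun _ => 1) : TrivSqZeroExt k (Fin 1 → k)) * algebraMap k _ (snd x' 0) = x'
    refine TrivSqZeroExt.ext ?_ (funext fun i => ?_)
    · simp [algebraMap_eq_inl]
    · rw [Subsingleton.elim i 0]; simp [algebraMap_eq_inl]
  · refine Ideal.Quotient.ringHom_ext (RingHom.ext fun z => ?_)
    show M.q (ψ (fst z) + ε * L (snd z 0)) = algebraMap P A₀ (fst z)
    rw [map_add, map_mul, hεq, zero_mul, add_zero, hψq]

omit hπ

variable (k) in
/-- `formOf` as a linear map. -/
def formLin (d : ℕ) : (Fin d → k) →ₗ[k] ((Fin d → k) →ₗ[k] k) where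
  toFun := formOf
  map_add' a b := LinearMap.ext fun v => by simp [formOf_apply, add_mul, Finset.sum_add_distrib]
  map_smul' c a := LinearMap.ext fun v => by simp [formOf_apply, Finset.mul_sum, mul_assoc]

theorem exists_dual_hom (a : Fin d → k) : ∃ m : dualN Λ k d ⟶ dualN Λ k 1,
    (∀ x : TrivSqZeroExt k (Fin d → k), (m.toAlgHom x : TrivSqZeroExt k (Fin 1 → k)) =
      (fst x, fun _ => ∑ j, a j * snd x j)) ∧
    m ≫ dualNHom (LinearMap.proj 0) = dualNHom (formOf a) :=
  ⟨⟨tszeMap (LinearMap.pi fun _ => formOf a), AlgHom.ext fun _ => rfl⟩,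
    fun x => TrivSqZeroExt.ext rfl (funext fun _ => by
      show formOf a (snd x) = ∑ j, a j * snd x j
      exact formOf_apply a _), Art.hom_ext (AlgHom.ext fun _ => rfl)⟩

include hπ

/-- Finitely many homomorphisms spanning modulo derivations make the tangent space finite. -/
theorem hfin [TangentStr (defFunctor (Λ := Λ) (Spec (CommRingCat.of A₀))
      (Spec.map (CommRingCat.ofHom (algebraMap k A₀))))]
    (hfree : ∀ (T : Type u) [CommRing T] [Algebra k T] (q : T →ₐ[k] A₀), Function.Surjective q →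
      ∃ ψ : P →ₐ[k] T, q.comp ψ = IsScalarTower.toAlgHom k P A₀)
    (hspan : ∀ φ : kerI P A₀ →ₗ[P] A₀, ∃ (a : Fin d → k) (D : Derivation k P A₀),
      ∀ i, φ i = (∑ j, a j • Φ j i) - D i) :
    Hfin (defFunctor (Λ := Λ) (Spec (CommRingCat.of A₀)) (Spec.map (CommRingCat.ofHom (algebraMap k A₀)))) := by
  let Fn := defFunctor (Λ := Λ) (Spec (CommRingCat.of A₀)) (Spec.map (CommRingCat.ofHom (algebraMap k A₀)))
  let ξ : Fn.obj (dualN Λ k d) := (fo Λ Φ hπ).cl
  refine Module.Finite.of_surjective ((evalForms (F := Fn) ξ).comp (formLin (k := k) d)) fun t => ?_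
  let c : dual Λ k ⟶ dualN Λ k 1 := ⟨tszeMap (LinearMap.pi fun _ => LinearMap.id), AlgHom.ext fun _ => rfl⟩
  have hc : c ≫ dualNHom (LinearMap.proj 0) = 𝟙 _ := dual_hom_ext fun _ => rfl
  obtain ⟨M, hM⟩ := exists_model ((defFunctor _ _).map c t)
  obtain ⟨φ, hφ⟩ := exists_fo_eq hπ hfree M
  obtain ⟨a, D, hD⟩ := hspan φ
  obtain ⟨m, hm, hm'⟩ := exists_dual_hom (Λ := Λ) a
  refine ⟨a, ?_⟩
  have e1 : t = (defFunctor _ _).map (dualNHom (LinearMap.proj 0)) M.cl := by
    rw [hM, ← map_comp_app, hc, map_id_app]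
  rw [e1, ← hφ, ← map_fo Φ hπ φ a D hD m hm, ← map_comp_app, hm']
  rfl

end Groth.Agent.DefFun
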