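import Mathlib

/-!
# First order deformations are finite dimensional at an isolated singularity
-/

set_option autoImplicit false
set_option linter.style.haveILetI false
set_option maxHeartbeats 800000

universe u

open Localization

noncomputable section

namespace Groth.Agent.DefFun

variable {k P A₀ : Type u} [Field k] [CommRing P] [CommRing A₀] [Algebra k P] [Algebra P A₀] [Algebra k A₀]
  [IsScalarTower k P A₀]

/-- On a smooth basic open, every homomorphism on the ideal is a derivation. -/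
theorem exists_derivation_away (hπ : Function.Surjective (algebraMap P A₀)) (g : P)
    [Algebra.FormallySmooth k (Away (algebraMap P A₀ g))]
    (φ : RingHom.ker (algebraMap P A₀) →ₗ[P] A₀) :
    ∃ D₀ : Derivation k P (Away (algebraMap P A₀ g)),
      ∀ i : RingHom.ker (algebraMap P A₀), D₀ i = algebraMap A₀ _ (φ i) := by
  classical
  let f := algebraMap P A₀ g
  let Af := Away f
  let Pg := Away g
  let ι : P →+* Pg := algebraMap P Pg
  let j : A₀ →+* Af := algebraMap A₀ Af
  let q : Pg →+* Af := IsLocalization.Away.map Pg Af (algebraMap P A₀) g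
  have hq : ∀ p, q (ι p) = j (algebraMap P A₀ p) := fun p => IsLocalization.map_eq _ p
  have hu : IsUnit (j f) := IsLocalization.Away.algebraMap_isUnit f
  have hug : IsUnit (ι g) := IsLocalization.Away.algebraMap_isUnit g
  have hqc : ∀ c, q (algebraMap k Pg c) = algebraMap k Af c := fun c => by
    rw [IsScalarTower.algebraMap_apply k P Pg, IsScalarTower.algebraMap_apply k A₀ Af, hq,
      ← IsScalarTower.algebraMap_apply k P A₀]
  let qA : Pg →ₐ[k] Af := AlgHom.mk q hqc
  have hqs : Function.Surjective q := fun y => by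
    obtain ⟨n, a, ha⟩ := IsLocalization.Away.surj f y
    obtain ⟨p, rfl⟩ := hπ a
    obtain ⟨v, hv⟩ := (hug.pow n).exists_left_inv
    refine ⟨ι p * v, (hu.pow n).mul_right_cancel ?_⟩
    rw [map_mul, hq]
    have h1 : q v * j f ^ n = 1 := by rw [← hq, ← map_pow, ← map_mul, hv, map_one]
    rw [mul_assoc, h1, mul_one]
    exact ha.symm
  let K := RingHom.ker q
  have huni : ∀ (z : Pg) (i i' : RingHom.ker (algebraMap P A₀)) (n n' : ℕ), ι g ^ n * z = ι i →
      ι g ^ n' * z = ι i' → j f ^ n' * j (φ i) = j f ^ n * j (φ i') := by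
    intro z i i' n n' h h'
    have e : ι (g ^ n' * i) = ι (g ^ n * i') := by
      rw [map_mul, map_mul, map_pow, map_pow, ← h, ← h']; ring
    obtain ⟨⟨_, m, rfl⟩, hm⟩ := (IsLocalization.eq_iff_exists (Submonoid.powers g) Pg).1 e
    have e2 : g ^ m • (g ^ n' • i) = g ^ m • (g ^ n • i') := Subtype.ext hm
    have e3 := congrArg (fun t => j (φ t)) e2
    simp only [map_smul, Algebra.smul_def, map_pow, map_mul] at e3
    exact (hu.pow m).mul_left_cancel e3
  have hex : ∀ z ∈ K, ∃ (i : RingHom.ker (algebraMap P A₀)) (n : ℕ), ι g ^ n * z = ι i := by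
    intro z hz
    obtain ⟨n, p, hp⟩ := IsLocalization.Away.surj g z
    have h0 : j (algebraMap P A₀ p) = 0 := by
      rw [← hq, ← hp, map_mul, RingHom.mem_ker.1 hz, zero_mul]
    obtain ⟨⟨_, m, rfl⟩, hm⟩ := (IsLocalization.map_eq_zero_iff (Submonoid.powers f) Af _).1 h0
    refine ⟨⟨g ^ m * p, ?_⟩, m + n, ?_⟩
    · rw [RingHom.mem_ker, map_mul, map_pow]; exact hm
    · show ι g ^ (m + n) * z = ι (g ^ m * p)
      rw [map_mul, map_pow, ← hp, pow_add]; ring
  let R : Pg → Af → Prop := fun z a =>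
    ∃ (i : RingHom.ker (algebraMap P A₀)) (n : ℕ), ι g ^ n * z = ι i ∧ j f ^ n * a = j (φ i)
  have hRu : ∀ z a a', R z a → R z a' → a = a' := by
    rintro z a a' ⟨i, n, h, ha⟩ ⟨i', n', h', ha'⟩
    have := huni z i i' n n' h h'
    rw [← ha, ← ha', ← mul_assoc, ← mul_assoc, mul_comm (j f ^ n'), ← pow_add] at this
    exact (hu.pow _).mul_left_cancel this
  have hRe : ∀ z ∈ K, ∃ a, R z a := by
    intro z hz
    obtain ⟨i, n, h⟩ := hex z hz
    obtain ⟨v, hv⟩ := (hu.pow n).exists_left_inv
    exact ⟨v * j (φ i), i, n, h, by rw [← mul_assoc, mul_comm _ v, hv, one_mul]⟩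
  choose κ hκ using hRe
  let κ' : K → Af := fun z => κ z.1 z.2
  have hκ' : ∀ z : K, R z.1 (κ' z) := fun z => hκ z.1 z.2
  have hRadd : ∀ z z' a a', R z a → R z' a' → R (z + z') (a + a') := by
    rintro z z' a a' ⟨i, n, h, ha⟩ ⟨i', n', h', ha'⟩
    refine ⟨g ^ n' • i + g ^ n • i', n + n', ?_, ?_⟩
    · simp only [Submodule.coe_add, Submodule.coe_smul_of_tower, smul_eq_mul, map_add, map_mul, map_pow, ← h, ← h',
        pow_add]
      ring
    · simp only [map_add, map_smul, Algebra.smul_def, map_mul, map_pow, pow_add]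
      rw [← ha, ← ha']; ring
  have hRmul : ∀ w z a, R z a → R (w * z) (q w * a) := by
    rintro w z a ⟨i, n, h, ha⟩
    obtain ⟨m, p, hp⟩ := IsLocalization.Away.surj g w
    refine ⟨p • i, m + n, ?_, ?_⟩
    · rw [Submodule.coe_smul_of_tower, smul_eq_mul, map_mul, ← h, show ι p = w * ι g ^ m from hp.symm, pow_add]; ring
    · have hpw : j (algebraMap P A₀ p) = q w * j f ^ m := by
        rw [← hq, show ι p = w * ι g ^ m from hp.symm, map_mul, map_pow, hq]
      rw [map_smul, Algebra.smul_def, map_mul, hpw, pow_add, ← ha]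
      ring
  have hR0 : ∀ i : RingHom.ker (algebraMap P A₀), R (ι i) (j (φ i)) := fun i => ⟨i, 0, by simp, by simp⟩
  have hKK : ∀ z ∈ K * K, R z 0 := by
    intro z hz
    refine Submodule.mul_induction_on hz (fun a ha b hb => ?_) fun a b ha hb => by simpa using hRadd _ _ _ _ ha hb
    have := hRmul a b _ (hκ b hb)
    rwa [RingHom.mem_ker.1 ha, zero_mul] at this
  -- the section
  let W := Pg ⧸ (K * K)
  have hKKq : ∀ z ∈ K * K, qA z = 0 := fun z hz => RingHom.mem_ker.1 (Ideal.mul_le_right hz)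
  let qW : W →ₐ[k] Af := Ideal.Quotient.liftₐ (K * K) qA hKKq
  have hWs : Function.Surjective qW := Ideal.Quotient.lift_surjective_of_surjective _ hKKq hqs
  have hnil : IsNilpotent (RingHom.ker (qW : W →+* Af)) := by
    refine ⟨2, ?_⟩
    rw [show (2 : ℕ) = 1 + 1 from rfl, Submodule.pow_succ, Submodule.pow_one, eq_comm, Ideal.zero_eq_bot, eq_comm, eq_bot_iff, Ideal.mul_le]
    intro a ha b hb
    obtain ⟨a, rfl⟩ := Ideal.Quotient.mk_surjective a
    obtain ⟨b, rfl⟩ := Ideal.Quotient.mk_surjective b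
    rw [Ideal.mem_bot, ← map_mul, Ideal.Quotient.eq_zero_iff_mem]
    exact Ideal.mul_mem_mul ha hb
  let s : Af →ₐ[k] W := Algebra.FormallySmooth.liftOfSurjective (AlgHom.id k Af) qW hWs hnil
  have hs : ∀ y, qW (s y) = y := fun y => Algebra.FormallySmooth.liftOfSurjective_apply _ _ hWs hnil y
  choose σ hσ using fun y : Af => Ideal.Quotient.mk_surjective (I := K * K) (s y)
  have hqσ : ∀ y, q (σ y) = y := fun y => by
    have := hs y
    rw [← hσ] at this
    exact this
  have hmem : ∀ p, ι p - σ (j (algebraMap P A₀ p)) ∈ K := fun p => by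
    rw [RingHom.mem_ker, map_sub, hq, hqσ, sub_self]
  let d : P → Af := fun p => κ' ⟨_, hmem p⟩
  have hd : ∀ p z, z - (ι p - σ (j (algebraMap P A₀ p))) ∈ K * K → R z (d p) := fun p z hz => by
    have := hRadd _ _ _ _ (hKK _ hz) (hκ' ⟨_, hmem p⟩)
    simpa using this
  have hmk : ∀ y y', s y = s y' → σ y - σ y' ∈ K * K := fun y y' h => by
    rw [← Ideal.Quotient.eq, hσ, hσ, h]
  have hdadd : ∀ p p', d (p + p') = d p + d p' := fun p p' => by
    refine hRu _ _ _ (hd (p + p') ((ι p - σ (j (algebraMap P A₀ p))) + (ι p' - σ (j (algebraMap P A₀ p')))) ?_)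
      (hRadd _ _ _ _ (hκ' ⟨_, hmem p⟩) (hκ' ⟨_, hmem p'⟩))
    rw [← Ideal.Quotient.eq]
    simp only [map_add, map_sub, hσ]
    abel
  have hdmul : ∀ p p', d (p * p') = j (algebraMap P A₀ p) * d p' + j (algebraMap P A₀ p') * d p := fun p p' => by
    refine hRu _ _ _ (hd (p * p') (ι p * (ι p' - σ (j (algebraMap P A₀ p'))) +
        σ (j (algebraMap P A₀ p')) * (ι p - σ (j (algebraMap P A₀ p)))) ?_) ?_
    · rw [← Ideal.Quotient.eq]
      simp only [map_add, map_sub, map_mul, hσ]
      ring
    · have h1 := hRmul (ι p) _ _ (hκ' ⟨_, hmem p'⟩)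
      have h2 := hRmul (σ (j (algebraMap P A₀ p'))) _ _ (hκ' ⟨_, hmem p⟩)
      rw [hq] at h1
      rw [hqσ] at h2
      exact hRadd _ _ _ _ h1 h2
  have hdk : ∀ c : k, d (algebraMap k P c) = 0 := fun c => by
    refine hRu 0 _ _ (hd _ 0 ?_) ⟨0, 0, by simp, by simp⟩
    rw [← Ideal.Quotient.eq, map_zero, map_sub, hσ,
      show j (algebraMap P A₀ (algebraMap k P c)) = algebraMap k Af c by
        rw [← IsScalarTower.algebraMap_apply k P A₀]; exact (IsScalarTower.algebraMap_apply k A₀ Af c).symm,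
      AlgHom.commutes,
      show Ideal.Quotient.mk (K * K) (ι (algebraMap k P c)) = algebraMap k W c by
        rw [show ι (algebraMap k P c) = algebraMap k Pg c from (IsScalarTower.algebraMap_apply k P Pg c).symm]; rfl,
      sub_self]
  let D₀ : Derivation k P Af :=
    { toFun := d
      map_add' := hdadd
      map_smul' := fun c p => by
        rw [Algebra.smul_def, hdmul, hdk, mul_zero, add_zero, RingHom.id_apply, Algebra.smul_def,
          ← IsScalarTower.algebraMap_apply k P A₀]
        rfl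
      map_one_eq_zero' := by
        have := hdk 1
        rwa [map_one] at this
      leibniz' := fun p p' => by
        show d (p * p') = p • d p' + p' • d p
        rw [hdmul, Algebra.smul_def, Algebra.smul_def, IsScalarTower.algebraMap_apply P A₀ Af,
          IsScalarTower.algebraMap_apply P A₀ Af] }
  refine ⟨D₀, fun i => hRu _ _ _ (hd i (ι i) ?_) (hR0 i)⟩
  rw [sub_sub_cancel, ← Ideal.Quotient.eq_zero_iff_mem, hσ, RingHom.mem_ker.1 i.2, map_zero, map_zero]

variable (n : ℕ) [Algebra (MvPolynomial (Fin n) k) A₀] [IsScalarTower k (MvPolynomial (Fin n) k) A₀]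

/-- Finitely many homomorphisms on the ideal span modulo derivations. -/
theorem exists_spanning (hπ : Function.Surjective (algebraMap (MvPolynomial (Fin n) k) A₀))
    (F : Set (PrimeSpectrum A₀)) (hF : F.Finite)
    (hsm : ∀ p ∉ F, ∃ f : A₀, f ∉ p.asIdeal ∧ Algebra.FormallySmooth k (Away f)) :
    ∃ (d : ℕ) (Φ : Fin d → (RingHom.ker (algebraMap (MvPolynomial (Fin n) k) A₀) →ₗ[MvPolynomial (Fin n) k] A₀)),
      ∀ φ : RingHom.ker (algebraMap (MvPolynomial (Fin n) k) A₀) →ₗ[MvPolynomial (Fin n) k] A₀,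
        ∃ (a : Fin d → k) (D : Derivation k (MvPolynomial (Fin n) k) A₀),
          ∀ i, φ i = (∑ l, a l • Φ l i) - D i := by
  classical
  set Q := MvPolynomial (Fin n) k
  let I := RingHom.ker (algebraMap Q A₀)
  let res : Derivation k Q A₀ →ₗ[Q] (I →ₗ[Q] A₀) :=
    { toFun := fun D =>
        { toFun := fun i => D i
          map_add' := fun i i' => by rw [Submodule.coe_add, map_add]
          map_smul' := fun p i => by
            rw [Submodule.coe_smul_of_tower, smul_eq_mul, D.leibniz, Algebra.smul_def (i : Q),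
              RingHom.mem_ker.1 i.2, zero_mul, add_zero, RingHom.id_apply] }
      map_add' := fun D D' => LinearMap.ext fun _ => rfl
      map_smul' := fun p D => LinearMap.ext fun _ => rfl }
  haveI : Module.Finite Q A₀ := Module.Finite.of_surjective (Algebra.linearMap Q A₀) hπ
  haveI : IsNoetherian Q (I →ₗ[Q] A₀) := inferInstance
  let M := (I →ₗ[Q] A₀) ⧸ LinearMap.range res
  haveI : Module.Finite Q M := Module.Finite.quotient Q _
  let J := Module.annihilator Q M
  have hIJ : I ≤ J := fun i hi => by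
    rw [Module.mem_annihilator]
    intro m
    obtain ⟨φ, rfl⟩ := Submodule.Quotient.mk_surjective _ m
    rw [← Submodule.Quotient.mk_smul, show i • φ = 0 from LinearMap.ext fun x => by
      show i • φ x = 0
      rw [Algebra.smul_def, RingHom.mem_ker.1 hi, zero_mul]]
    rfl
  have key : ∀ g : Q, Algebra.FormallySmooth k (Away (algebraMap Q A₀ g)) → ∀ φ : I →ₗ[Q] A₀,
      ∃ N : ℕ, g ^ N • φ ∈ LinearMap.range res := by
    intro g hg φ
    obtain ⟨D₀, hD₀⟩ := @exists_derivation_away k _ _ _ _ _ _ _ _ _ hπ g hg φ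
    let f := algebraMap Q A₀ g
    obtain ⟨⟨_, N, rfl⟩, hN⟩ := IsLocalization.exist_integer_multiples_of_finite (Submonoid.powers f)
      (fun l : Fin n => D₀ (MvPolynomial.X l))
    choose a ha using hN
    let D : Derivation k Q A₀ := MvPolynomial.mkDerivation k a
    have hmap : ∀ p, algebraMap A₀ (Away f) (D p) = (f ^ N) • D₀ p := by
      intro p
      induction p using MvPolynomial.induction_on with
      | C c =>
        rw [show (MvPolynomial.C c : Q) = algebraMap k Q c from rfl, Derivation.map_algebraMap,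
          Derivation.map_algebraMap, map_zero, smul_zero]
      | add p q hp hq => rw [map_add, map_add, map_add, smul_add, hp, hq]
      | mul_X p l hp =>
        rw [D.leibniz, D₀.leibniz, map_add, smul_add, Algebra.smul_def p, Algebra.smul_def (MvPolynomial.X l : Q),
          map_mul, map_mul, hp, MvPolynomial.mkDerivation_X, ha,
          Algebra.smul_def p (D₀ _), Algebra.smul_def (MvPolynomial.X l : Q) (D₀ p),
          IsScalarTower.algebraMap_apply Q A₀ (Away f), IsScalarTower.algebraMap_apply Q A₀ (Away f)]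
        simp only [Algebra.smul_def]
        ring
    have hi : ∀ i : I, ∃ m : ℕ, f ^ m * (f ^ N * φ i - D i) = 0 := fun i => by
      have h0 : algebraMap A₀ (Away f) (f ^ N * φ i - D i) = 0 := by
        rw [map_sub, map_mul, hmap, hD₀, Algebra.smul_def, sub_self]
      obtain ⟨⟨_, m, rfl⟩, hm⟩ := (IsLocalization.map_eq_zero_iff (Submonoid.powers f) (Away f) _).1 h0
      exact ⟨m, hm⟩
    obtain ⟨s, hs⟩ : (⊤ : Submodule Q I).FG := IsNoetherian.noetherian ⊤
    choose m hm using hi
    refine ⟨(s.sup m) + N, g ^ (s.sup m) • D, ?_⟩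
    refine LinearMap.ext_on hs fun i hi => ?_
    show g ^ (s.sup m) • D i = g ^ (s.sup m + N) • φ i
    rw [Algebra.smul_def, Algebra.smul_def, map_pow, map_pow, pow_add, mul_assoc]
    have h1 := hm i
    obtain ⟨c, hc⟩ := Nat.exists_eq_add_of_le (Finset.le_sup (f := m) hi)
    rw [hc, pow_add]
    linear_combination (-(f ^ c)) * h1
  have hprime : ∀ p : Ideal Q, p.IsPrime → J ≤ p →
      ∃ p0 ∈ F, p = Ideal.comap (algebraMap Q A₀) p0.asIdeal := by
    intro p hp hJp
    haveI := Ideal.map_isPrime_of_surjective hπ (hIJ.trans hJp)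
    let p0 : PrimeSpectrum A₀ := ⟨p.map (algebraMap Q A₀), inferInstance⟩
    have hc : p = Ideal.comap (algebraMap Q A₀) p0.asIdeal := by
      show p = Ideal.comap _ (p.map _)
      rw [Ideal.comap_map_of_surjective _ hπ, left_eq_sup]
      exact hIJ.trans hJp
    refine ⟨p0, by_contra fun hp0 => ?_, hc⟩
    obtain ⟨f, hf, hfs⟩ := hsm p0 hp0
    obtain ⟨g, rfl⟩ := hπ f
    have hg : g ∉ p := fun h => hf (Ideal.mem_map_of_mem _ h)
    obtain ⟨s, hs⟩ : (⊤ : Submodule Q M).FG := Module.Finite.fg_top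
    have hk : ∀ x : M, ∃ N : ℕ, g ^ N • x = 0 := fun x => by
      obtain ⟨φ, rfl⟩ := Submodule.Quotient.mk_surjective _ x
      obtain ⟨N, hN⟩ := key g hfs φ
      exact ⟨N, by rwa [← Submodule.Quotient.mk_smul, Submodule.Quotient.mk_eq_zero]⟩
    choose N hN using hk
    refine hg (hp.mem_of_pow_mem (s.sup N) (hJp ?_))
    rw [Module.mem_annihilator]
    intro x
    have : (⊤ : Submodule Q M) ≤ LinearMap.ker (DistribSMul.toLinearMap Q M (g ^ s.sup N)) := by
      rw [← hs, Submodule.span_le]
      intro y hy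
      obtain ⟨c, hc⟩ := Nat.exists_eq_add_of_le (Finset.le_sup (f := N) hy)
      show g ^ s.sup N • y = 0
      rw [hc, add_comm, pow_add, mul_smul, hN, smul_zero]
    exact this (Submodule.mem_top (x := x))
  haveI : Finite (PrimeSpectrum (Q ⧸ J)) := by
    let c : PrimeSpectrum (Q ⧸ J) → Ideal Q := fun p => p.asIdeal.comap (Ideal.Quotient.mk J)
    have hc : Function.Injective c := fun p p' h =>
      PrimeSpectrum.ext (Ideal.comap_injective_of_surjective _ Ideal.Quotient.mk_surjective h)
    haveI : Finite (Set.range c) := by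
      refine ((hF.image fun p0 => Ideal.comap (algebraMap Q A₀) p0.asIdeal).subset ?_).to_subtype
      rintro _ ⟨p, rfl⟩
      obtain ⟨p0, hp0, he⟩ := hprime (c p) (inferInstanceAs (p.asIdeal.comap (Ideal.Quotient.mk J)).IsPrime)
        ((Ideal.mk_ker (I := J)).ge.trans (Ideal.comap_mono bot_le))
      exact ⟨p0, hp0, he.symm⟩
    exact Finite.of_injective_finite_range hc
  haveI : Algebra.FiniteType k (Q ⧸ J) := inferInstance
  haveI : IsJacobsonRing (Q ⧸ J) := inferInstance
  haveI : IsArtinianRing (Q ⧸ J) := by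
    rw [isArtinianRing_iff_isNoetherianRing_krullDimLE_zero]
    refine ⟨inferInstance, Ring.KrullDimLE.mk₀ fun p hp => ?_⟩
    haveI := hp
    have hj : p.jacobson = p := IsJacobsonRing.out ‹_› (Ideal.IsPrime.isRadical hp)
    have hfin : {m : Ideal (Q ⧸ J) | p ≤ m ∧ m.IsMaximal}.Finite := by
      refine (Set.finite_range (PrimeSpectrum.asIdeal : PrimeSpectrum (Q ⧸ J) → _)).subset ?_
      exact fun m hm => ⟨⟨m, hm.2.isPrime⟩, rfl⟩
    have hle : hfin.toFinset.inf id ≤ p := by
      refine le_trans ?_ hj.le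
      exact le_sInf fun m hm => Finset.inf_le (f := id) (hfin.mem_toFinset.2 hm)
    obtain ⟨m, hm, hmp⟩ := (hp.inf_le' (s := hfin.toFinset) (f := id)).1 hle
    obtain ⟨h1, h2⟩ := hfin.mem_toFinset.1 hm
    rwa [show p = m from le_antisymm h1 hmp]
  haveI : Module.Finite k (Q ⧸ J) := (Module.finite_iff_isArtinianRing k (Q ⧸ J)).2 inferInstance
  letI : Module (Q ⧸ J) M := Module.IsTorsionBySet.module (fun m x => Module.mem_annihilator.1 x.2 m)
  haveI : IsScalarTower Q (Q ⧸ J) M := IsScalarTower.of_algebraMap_smul fun r m => rfl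
  haveI : Module.Finite (Q ⧸ J) M := Module.Finite.of_restrictScalars_finite Q (Q ⧸ J) M
  haveI : IsScalarTower k (Q ⧸ J) M := IsScalarTower.of_algebraMap_smul fun c m => by
    rw [IsScalarTower.algebraMap_apply k Q (Q ⧸ J), ← IsScalarTower.algebraMap_smul Q c m]
    rfl
  haveI : Module.Finite k M := Module.Finite.trans (Q ⧸ J) M
  obtain ⟨d, π, hπd⟩ := Module.Finite.exists_fin' k M
  choose Φ hΦ using fun l : Fin d => Submodule.Quotient.mk_surjective _ (π (Pi.single l 1))
  refine ⟨d, Φ, fun φ => ?_⟩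
  obtain ⟨a, ha⟩ := hπd (Submodule.Quotient.mk φ)
  have : Submodule.Quotient.mk ((∑ l, a l • Φ l) - φ) = (0 : M) := by
    rw [Submodule.Quotient.mk_sub, sub_eq_zero, ← ha, ← Submodule.mkQ_apply, map_sum,
      show π a = ∑ l, a l • π (Pi.single l 1) by
        simp only [← map_smul, ← map_sum]
        congr 1
        exact pi_eq_sum_univ' a]
    refine Finset.sum_congr rfl fun l _ => ?_
    rw [Submodule.mkQ_apply, Submodule.Quotient.mk_smul, hΦ]
  rw [Submodule.Quotient.mk_eq_zero] at this
  obtain ⟨D, hD⟩ := this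
  refine ⟨a, D, fun i => ?_⟩
  have hi : (D : Q → A₀) i = (∑ l, a l • Φ l i) - φ i := by
    have := LinearMap.congr_fun hD i
    simpa [res] using this
  rw [hi, sub_sub_cancel]

end Groth.Agent.DefFun
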