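import Groth.Agent.DefFun.FirstOrder
import Groth.Agent.DefFun.T1Finite

/-!
# The hull of an affine isolated singularity
-/

set_option autoImplicit false
set_option linter.style.haveILetI false
set_option backward.isDefEq.respectTransparency false
set_option maxHeartbeats 800000
set_option synthInstance.maxHeartbeats 100000

universe u

open CategoryTheory CategoryTheory.Limits AlgebraicGeometry

noncomputable section

namespace Groth.Agent.DefFun

open ArtFun ArtFun.Art

variable {Λ k : Type u} [CommRing Λ] [Field k] [Algebra Λ k]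

variable {X X' : Scheme.{u}} {x : X ⟶ specPt k} {x' : X' ⟶ specPt k}

/-- Transport of a deformation along an isomorphism of the closed fibre. -/
def transport (e : X ≅ X') (he : e.hom ≫ x' = x) {A : Art Λ k} (ξ : DefSch X' x' A) : DefSch X x A where
  total := ξ.total
  f := ξ.f
  flat := ξ.flat
  i := e.hom ≫ ξ.i
  isPullback := ξ.isPullback.of_iso e.symm (Iso.refl _) (Iso.refl _) (Iso.refl _) (by simp)
    (by simp [← he]) (by simp) (by simp)

theorem transport_congr (e : X ≅ X') (he : e.hom ≫ x' = x) {A : Art Λ k} {ξ η : DefSch X' x' A}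
    (d : DefSch.Iso ξ η) : Nonempty (DefSch.Iso (transport e he ξ) (transport e he η)) := by
  refine ⟨⟨d.iso, d.hom_f, ?_⟩⟩
  show (e.hom ≫ ξ.i) ≫ d.iso.hom = e.hom ≫ η.i
  rw [Category.assoc, d.i_hom]

/-- Transport of classes. -/
def transportCl (e : X ≅ X') (he : e.hom ≫ x' = x) {A : Art Λ k} :
    (defFunctor X' x').obj A → (defFunctor X x).obj A :=
  Quotient.map (transport e he) fun _ _ ⟨d⟩ => transport_congr e he d

theorem transportCl_natural (e : X ≅ X') (he : e.hom ≫ x' = x) {A B : Art Λ k} (g : A ⟶ B)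
    (c : (defFunctor X' x').obj A) :
    transportCl e he ((defFunctor X' x').map g c) = (defFunctor X x).map g (transportCl e he c) := by
  induction c using Quotient.inductionOn with
  | h ξ =>
    refine Quotient.sound ⟨⟨Iso.refl _, Category.id_comp _, ?_⟩⟩
    simp only [Iso.refl_hom, Category.comp_id]
    show e.hom ≫ (ξ.baseChange g).i = ((transport e he ξ).baseChange g).i
    apply pullback.hom_ext
    · refine ((Category.assoc _ _ _).trans (congrArg (e.hom ≫ ·) (DefSch.baseChange_i_fst ξ g))).trans ?_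
      exact (DefSch.baseChange_i_fst (transport e he ξ) g).symm
    · refine ((Category.assoc _ _ _).trans (congrArg (e.hom ≫ ·) (DefSch.baseChange_i_f ξ g))).trans ?_
      rw [← Category.assoc, he]
      exact (DefSch.baseChange_i_f (transport e he ξ) g).symm

theorem transportCl_transportCl (e : X ≅ X') (he : e.hom ≫ x' = x) {A : Art Λ k}
    (c : (defFunctor (Λ := Λ) X x).obj A) :
    transportCl e he (transportCl e.symm (by rw [← he]; simp) c) = c := by
  induction c using Quotient.inductionOn with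
  | h ξ =>
    refine Quotient.sound ⟨⟨Iso.refl _, Category.id_comp _, ?_⟩⟩
    show (e.hom ≫ e.inv ≫ ξ.i) ≫ 𝟙 _ = ξ.i
    simp

theorem hasHull_transport (e : X ≅ X') (he : e.hom ≫ x' = x) (h : HasHull (defFunctor (Λ := Λ) X' x')) :
    HasHull (defFunctor (Λ := Λ) X x) := by
  obtain ⟨H⟩ := h
  have he' : e.symm.hom ≫ x = x' := by rw [← he]; simp
  have hinv : ∀ (A : Art Λ k) (c : (defFunctor (Λ := Λ) X' x').obj A),
      transportCl e.symm he' (transportCl e he c) = c := fun A c => by
    have := transportCl_transportCl e.symm he' c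
    exact this
  refine ⟨⟨H.ring, ⟨fun A φ => transportCl e he (H.family.app A φ), fun f φ => ?_⟩, ?_, ?_⟩⟩
  · rw [H.family.natural, transportCl_natural]
  · intro B A μ hμ φ y hy
    obtain ⟨ψ, h1, h2⟩ := H.miniversal.1 μ hμ φ (transportCl e.symm he' y) (by
      rw [← transportCl_natural, hy, hinv])
    exact ⟨ψ, h1, (congrArg (transportCl e he) h2).trans (transportCl_transportCl e he y)⟩
  · refine ⟨fun a b hab => H.miniversal.2.1 ?_, fun y => ?_⟩
    · have := congrArg (transportCl e.symm he') hab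
      rwa [hinv, hinv] at this
    · obtain ⟨a, ha⟩ := H.miniversal.2.2 (transportCl e.symm he' y)
      exact ⟨a, (congrArg (transportCl e he) ha).trans (transportCl_transportCl e he y)⟩

theorem hasHull_spec [IsNoetherianRing Λ] (hk : Function.Surjective (algebraMap Λ k)) {A₀ : Type u} [CommRing A₀]
    [Algebra k A₀] [Algebra.FiniteType k A₀] (F : Set (PrimeSpectrum A₀)) (hF : F.Finite)
    (hsm : ∀ p ∉ F, ∃ f : A₀, f ∉ p.asIdeal ∧ Algebra.FormallySmooth k (Localization.Away f)) :
    HasHull (defFunctor (Λ := Λ) (Spec (CommRingCat.of A₀)) (Spec.map (CommRingCat.ofHom (algebraMap k A₀)))) := by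
  classical
  haveI : Module.Finite Λ k := Module.Finite.of_surjective (Algebra.linearMap Λ k) hk
  let Fn := defFunctor (Λ := Λ) (Spec (CommRingCat.of A₀)) (Spec.map (CommRingCat.ofHom (algebraMap k A₀)))
  have h0 : H0 Fn := DefFun.h0 _ _
  have h2 : Heps Fn := DefFun.heps _ _
  obtain ⟨T⟩ := ArtKit.nonempty_tangentStr h0 h2
  letI := T
  obtain ⟨n, f, hf⟩ := Algebra.FiniteType.iff_quotient_mvPolynomial''.1 ‹Algebra.FiniteType k A₀›
  letI : Algebra (MvPolynomial (Fin n) k) A₀ := f.toRingHom.toAlgebra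
  haveI : IsScalarTower k (MvPolynomial (Fin n) k) A₀ := IsScalarTower.of_algebraMap_eq fun c => (f.commutes c).symm
  letI := opModule (MvPolynomial (Fin n) k) A₀
  haveI := centralScalar (MvPolynomial (Fin n) k) A₀
  obtain ⟨d, Φ, hΦ⟩ := exists_spanning n (k := k) (A₀ := A₀) hf F hF hsm
  have h3 : Hfin Fn := hfin Φ hf (fun R _ _ q hq => by
    choose t ht using fun l : Fin n => hq (algebraMap (MvPolynomial (Fin n) k) A₀ (MvPolynomial.X l))
    exact ⟨MvPolynomial.aeval t, MvPolynomial.algHom_ext fun l => by simp [ht]⟩) hΦ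
  refine ArtKit.hasHull_of_free h0 (DefFun.s1 _ _) h2 h3 fun σ σ' _ => ?_
  refine Art.hom_ext (AlgHom.ext fun a => ?_)
  obtain ⟨r, rfl⟩ := hk a
  exact (σ.toAlgHom.commutes r).trans (σ'.toAlgHom.commutes r).symm

theorem hasHull_affine [IsNoetherianRing Λ] (hk : Function.Surjective (algebraMap Λ k))
    (X : Scheme.{u}) [IsAffine X] (x : X ⟶ specPt k) [LocallyOfFiniteType x]
    (U : X.Opens) (hU : Smooth (U.ι ≫ x)) (hfin : ((U : Set X)ᶜ).Finite) :
    HasHull (defFunctor (Λ := Λ) X x) := by
  classical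
  let A₀ := Γ(X, ⊤)
  let e : X ≅ Spec (CommRingCat.of A₀) := X.isoSpec
  obtain ⟨s, hs⟩ := Spec.map_surjective (e.inv ≫ x)
  algebraize [s.hom]
  have hs' : Spec.map (CommRingCat.ofHom (algebraMap k A₀)) = e.inv ≫ x := hs
  haveI : Algebra.FiniteType k A₀ := (HasRingHomProperty.Spec_iff (P := @LocallyOfFiniteType)).mp
    (show LocallyOfFiniteType (Spec.map (CommRingCat.ofHom (algebraMap k A₀))) from hs' ▸ inferInstance)
  refine hasHull_transport e (x' := Spec.map (CommRingCat.ofHom (algebraMap k A₀))) (by rw [hs']; simp) ?_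
  let V : (Spec (CommRingCat.of A₀)).Opens := e.inv ⁻¹ᵁ U
  refine hasHull_spec hk ((V : Set (Spec (CommRingCat.of A₀)))ᶜ) ?_ fun p hp => ?_
  · exact hfin.preimage (e.inv.homeomorph.injective.injOn)
  · let V' : TopologicalSpace.Opens (PrimeSpectrum A₀) := V
    have hp' : p ∈ (V' : Set (PrimeSpectrum A₀)) := by simpa using hp
    obtain ⟨_, ⟨f, rfl⟩, hpf, hfV⟩ := PrimeSpectrum.isTopologicalBasis_basic_opens.exists_subset_of_mem_open hp' V'.2
    refine ⟨f, hpf, ?_⟩
    let j : Spec (CommRingCat.of (Localization.Away f)) ⟶ Spec (CommRingCat.of A₀) :=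
      Spec.map (CommRingCat.ofHom (algebraMap A₀ (Localization.Away f)))
    haveI : IsOpenImmersion j := IsOpenImmersion.of_isLocalization f
    have hr : Set.range (j ≫ e.inv) ⊆ Set.range U.ι := by
      rw [Scheme.Opens.range_ι]
      rintro _ ⟨z, rfl⟩
      show j z ∈ (V : Set (Spec (CommRingCat.of A₀)))
      refine hfV ?_
      exact (PrimeSpectrum.localization_away_comap_range (Localization.Away f) f).subset ⟨z, rfl⟩
    have hsm : Smooth (IsOpenImmersion.lift U.ι (j ≫ e.inv) hr ≫ U.ι ≫ x) := by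
      haveI := hU
      haveI : IsOpenImmersion (IsOpenImmersion.lift U.ι (j ≫ e.inv) hr ≫ U.ι) := by
        rw [IsOpenImmersion.lift_fac]; infer_instance
      haveI : IsOpenImmersion (IsOpenImmersion.lift U.ι (j ≫ e.inv) hr) :=
        IsOpenImmersion.of_comp _ U.ι
      infer_instance
    rw [← Category.assoc, IsOpenImmersion.lift_fac, Category.assoc, ← hs', ← Spec.map_comp,
      ← CommRingCat.ofHom_comp, ← IsScalarTower.algebraMap_eq] at hsm
    haveI : Algebra.Smooth k (Localization.Away f) :=
      RingHom.smooth_algebraMap.1 ((HasRingHomProperty.Spec_iff (P := @Smooth)).1 hsm)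
    infer_instance

end Groth.Agent.DefFun
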