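import Groth.Agent.DefFun.AutLift
import Groth.Agent.ArtKit.HullExists
import Groth.Agent.ArtFib.Basic
import Mathlib

/-!
# Extensions of a deformation over a semismall extension and first order deformations
-/

set_option autoImplicit false
set_option linter.style.haveILetI false
set_option backward.isDefEq.respectTransparency false

universe u v

open CategoryTheory CategoryTheory.Limits AlgebraicGeometry

noncomputable section

namespace Groth.Agent.DefFun

open ArtFun ArtFun.Art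

variable {Λ k : Type u} [CommRing Λ] [Field k] [Algebra Λ k] {X : Scheme.{u}} {x : X ⟶ specPt k}
variable {A A' A'' B : Art Λ k}

/-- Cartesian maps compose. -/
def Cart.comp {g : B ⟶ A'} {g' : A' ⟶ A} {ξ : DefSch X x B} {η : DefSch X x A'} {ζ : DefSch X x A}
    (c : Cart g η ξ) (c' : Cart g' ζ η) : Cart (g ≫ g') ζ ξ where
  m := c'.m ≫ c.m
  h := by
    rw [specMap_comp]
    exact c'.h.paste_horiz c.h
  hi := by rw [← Category.assoc, c'.hi, c.hi]

variable {p' : B ⟶ A'} {p'' : B ⟶ A''} {f' : A' ⟶ A} {f'' : A'' ⟶ A}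

/-- A deformation over a fibre product is glued from its cartesian restrictions. -/
theorem isPushout_cart (h : IsFibreProd p' p'' f' f'') (hs : Function.Surjective f'') {ξ : DefSch X x B}
    {α : DefSch X x A'} {β : DefSch X x A''} (c' : Cart p' α ξ) (c'' : Cart p'' β ξ)
    (l : (β.baseChange f'').total ⟶ α.total) (hl : l ≫ c'.m = pullback.fst β.f (specMap f'') ≫ c''.m)
    (hl' : l ≫ α.f = pullback.snd β.f (specMap f'') ≫ specMap f') :
    IsPushout (pullback.fst β.f (specMap f'')) l c''.m c'.m := by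
  obtain ⟨d', hd'⟩ := exists_iso_of_cart c' (cartBase p' ξ) (DefSch.Iso.refl ξ)
  obtain ⟨d'', hd''⟩ := exists_iso_of_cart c'' (cartBase p'' ξ) (DefSch.Iso.refl ξ)
  have e1 : d'.iso.hom ≫ pullback.fst ξ.f (specMap p') = c'.m := hd'.trans (Category.comp_id _)
  have e2 : d''.iso.hom ≫ pullback.fst ξ.f (specMap p'') = c''.m := hd''.trans (Category.comp_id _)
  refine (isPushout_restrict' h hs ξ).of_iso (d''.baseChange f'').iso.symm d''.iso.symm d'.iso.symm (Iso.refl _)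
    ?_ ?_ ?_ ?_
  · show _ ≫ d''.iso.inv = (d''.baseChange f'').iso.inv ≫ pullback.fst β.f (specMap f'')
    exact (DefSch.pullMap_fst _ d''.symm.hom_f f'').symm
  · show leg h ξ ≫ d'.iso.inv = (d''.baseChange f'').iso.inv ≫ l
    rw [Iso.comp_inv_eq, Category.assoc, Iso.eq_inv_comp]
    apply pullback.hom_ext
    · rw [Category.assoc, leg_fst, ← Category.assoc, baseChange_iso_fst, Category.assoc, e2, Category.assoc, e1, hl]
    · have hs1 : leg h ξ ≫ pullback.snd ξ.f (specMap p') =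
          pullback.snd (ξ.baseChange p'').f (specMap f'') ≫ specMap f' := pullback.lift_snd _ _ _
      have hs2 : (d''.baseChange f'').iso.hom ≫ pullback.snd (ξ.baseChange p'').f (specMap f'') =
          pullback.snd β.f (specMap f'') := (d''.baseChange f'').hom_f
      have hs3 : d'.iso.hom ≫ pullback.snd ξ.f (specMap p') = α.f := d'.hom_f
      rw [Category.assoc, hs1, ← Category.assoc, hs2, Category.assoc, hs3, hl']
  · rw [Iso.refl_hom, Category.comp_id, Iso.symm_hom, ← e2, Iso.inv_hom_id_assoc]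
  · rw [Iso.refl_hom, Category.comp_id, Iso.symm_hom, ← e1, Iso.inv_hom_id_assoc]

/-- Compatible isomorphisms of the restrictions glue. -/
theorem exists_iso_glue (h : IsFibreProd p' p'' f' f'') (hs : Function.Surjective f'') {ξ η : DefSch X x B}
    {α α₁ : DefSch X x A'} {β β₁ : DefSch X x A''} (c' : Cart p' α ξ) (c'' : Cart p'' β ξ)
    (c₁' : Cart p' α₁ η) (c₁'' : Cart p'' β₁ η)
    (l : (β.baseChange f'').total ⟶ α.total) (l₁ : (β₁.baseChange f'').total ⟶ α₁.total)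
    (hl : l ≫ c'.m = pullback.fst β.f (specMap f'') ≫ c''.m)
    (hl' : l ≫ α.f = pullback.snd β.f (specMap f'') ≫ specMap f')
    (hl₁ : l₁ ≫ c₁'.m = pullback.fst β₁.f (specMap f'') ≫ c₁''.m)
    (hl₁' : l₁ ≫ α₁.f = pullback.snd β₁.f (specMap f'') ≫ specMap f')
    (θ' : DefSch.Iso α α₁) (θ'' : DefSch.Iso β β₁)
    (hθ : (θ''.baseChange f'').iso.hom ≫ l₁ = l ≫ θ'.iso.hom) :
    ∃ ν : DefSch.Iso ξ η, c'.m ≫ ν.iso.hom = θ'.iso.hom ≫ c₁'.m ∧ c''.m ≫ ν.iso.hom = θ''.iso.hom ≫ c₁''.m := by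
  have H := isPushout_cart h hs c' c'' l hl hl'
  have H₁ := isPushout_cart h hs c₁' c₁'' l₁ hl₁ hl₁'
  have w : pullback.fst β.f (specMap f'') ≫ θ''.iso.hom ≫ c₁''.m = l ≫ θ'.iso.hom ≫ c₁'.m := by
    rw [← Category.assoc, ← baseChange_iso_fst, Category.assoc, ← hl₁, ← Category.assoc, hθ, Category.assoc]
  have hθi : (θ''.baseChange f'').iso.inv ≫ l = l₁ ≫ θ'.iso.inv := by
    rw [Iso.inv_comp_eq, ← Category.assoc, Iso.eq_comp_inv, hθ]
  have w₁ : pullback.fst β₁.f (specMap f'') ≫ θ''.iso.inv ≫ c''.m = l₁ ≫ θ'.iso.inv ≫ c'.m := by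
    rw [← Category.assoc, ← show (θ''.baseChange f'').iso.inv ≫ pullback.fst β.f (specMap f'') =
        pullback.fst β₁.f (specMap f'') ≫ θ''.iso.inv from DefSch.pullMap_fst _ θ''.symm.hom_f f'',
      Category.assoc, ← hl, ← Category.assoc, hθi, Category.assoc]
  let φ := H.desc _ _ w
  let ψ := H₁.desc _ _ w₁
  have hφψ : φ ≫ ψ = 𝟙 _ := by apply H.hom_ext <;> simp [φ, ψ]
  have hψφ : ψ ≫ φ = 𝟙 _ := by apply H₁.hom_ext <;> simp [φ, ψ]
  refine ⟨⟨⟨φ, ψ, hφψ, hψφ⟩, ?_, ?_⟩, H.inr_desc _ _ w, H.inl_desc _ _ w⟩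
  · apply H.hom_ext
    · rw [IsPushout.inl_desc_assoc, Category.assoc, c₁''.h.w, ← Category.assoc, θ''.hom_f, c''.h.w]
    · rw [IsPushout.inr_desc_assoc, Category.assoc, c₁'.h.w, ← Category.assoc, θ'.hom_f, c'.h.w]
  · show ξ.i ≫ φ = η.i
    rw [← c'.hi, Category.assoc, IsPushout.inr_desc, ← Category.assoc, θ'.i_hom, c₁'.hi]

/-- Deformations over the base ring are trivial. -/
theorem isIso_i_base (ξ : DefSch X x (base Λ k)) : IsIso ξ.i := ξ.isPullback.isIso_fst_of_isIso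

/-- The isomorphism between two deformations over the base ring. -/
theorem nonempty_iso_base (ξ η : DefSch X x (base Λ k)) : Nonempty (DefSch.Iso ξ η) :=
  Quotient.exact (s := DefSch.setoid X x _) (((h0 X x).2).elim ξ.cl η.cl)

variable {C' C P D : Art Λ k} {p : C' ⟶ C} {p₁ p₂ : P ⟶ C'} {g : P ⟶ D}

/-- Extensions of `𝒳` along `p`. -/
abbrev ExtOf (p : C' ⟶ C) (𝒳 : DefSch X x C) : Type (u + 1) := Σ 𝒳' : DefSch X x C', (𝒳'.baseChange p).Iso 𝒳

/-- Equivalence of extensions. -/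
abbrev extRel (p : C' ⟶ C) (𝒳 : DefSch X x C) : ExtOf p 𝒳 → ExtOf p 𝒳 → Prop :=
  fun a b => ∃ ψ : a.1.Iso b.1, ((ψ.baseChange p).trans b.2).iso = a.2.iso

/-- An extension and a deformation over `D` come from a common deformation over `P`. -/
def Rel (p₁ p₂ : P ⟶ C') (g : P ⟶ D) {𝒳 : DefSch X x C} (X₀ : DefSch X x C') (φ₀ : (X₀.baseChange p).Iso 𝒳)
    (a : ExtOf p 𝒳) (η : DefSch X x D) : Prop :=
  ∃ (ξ : DefSch X x P) (c₁ : Cart p₁ X₀ ξ) (_ : Cart g η ξ) (c₃ : Cart p₂ a.1 ξ),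
    ((a.2.iso.hom ≫ φ₀.iso.inv) ≫ pullback.fst X₀.f (specMap p)) ≫ c₁.m = pullback.fst a.1.f (specMap p) ≫ c₃.m

variable {𝒳 : DefSch X x C} {X₀ : DefSch X x C'} {φ₀ : (X₀.baseChange p).Iso 𝒳}

theorem leg_f (a : ExtOf p 𝒳) :
    ((a.2.iso.hom ≫ φ₀.iso.inv) ≫ pullback.fst X₀.f (specMap p)) ≫ X₀.f =
      pullback.snd a.1.f (specMap p) ≫ specMap p := by
  have h1 : φ₀.iso.inv ≫ pullback.snd X₀.f (specMap p) = 𝒳.f := φ₀.symm.hom_f
  have h2 : a.2.iso.hom ≫ 𝒳.f = pullback.snd a.1.f (specMap p) := a.2.hom_f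
  simp only [Category.assoc]
  rw [pullback.condition, ← Category.assoc φ₀.iso.inv, h1, ← Category.assoc, h2]

variable (φ₀)

theorem rel_of_ext (hP : IsFibreProd p₁ p₂ p p) (hs : Function.Surjective p) (a : ExtOf p 𝒳) :
    ∃ η, Rel p₁ p₂ g X₀ φ₀ a η := by
  obtain ⟨ξ, c₁, c₃, hc⟩ := exists_glue_cart hP hs X₀ a.1 (φ₀.trans a.2.symm)
  exact ⟨ξ.baseChange g, ξ, c₁, cartBase g ξ, c₃, by rw [hc]; simp [DefSch.Iso.trans, DefSch.Iso.symm]⟩

theorem rel_of_def (hP : IsFibreProd p₁ p₂ p p) (hD : IsFibreProd p₁ g (toBase C') (toBase D))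
    (η : DefSch X x D) : ∃ a : ExtOf p 𝒳, Rel p₁ p₂ g X₀ φ₀ a η := by
  obtain ⟨e⟩ := nonempty_iso_base (X₀.baseChange (toBase C')) (η.baseChange (toBase D))
  obtain ⟨ξ, c₁, c₂, -⟩ := exists_glue_cart hD D.res_surjective X₀ η e
  let q : Cart (p₁ ≫ p) ((ξ.baseChange p₂).baseChange p) ξ :=
    { m := pullback.fst (ξ.baseChange p₂).f (specMap p) ≫ pullback.fst ξ.f (specMap p₂)
      h := by
        rw [hP.w, specMap_comp]
        exact (IsPullback.of_hasPullback _ _).paste_horiz (IsPullback.of_hasPullback ξ.f (specMap p₂))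
      hi := ((cartBase p₂ ξ).comp (cartBase p (ξ.baseChange p₂))).hi }
  obtain ⟨d, hd⟩ := exists_iso_of_cart q (c₁.comp (cartBase p X₀)) (DefSch.Iso.refl ξ)
  refine ⟨⟨ξ.baseChange p₂, d.trans φ₀⟩, ξ, c₁, c₂, cartBase p₂ ξ, ?_⟩
  have hd' : d.iso.hom ≫ pullback.fst X₀.f (specMap p) ≫ c₁.m =
      pullback.fst (ξ.baseChange p₂).f (specMap p) ≫ pullback.fst ξ.f (specMap p₂) :=
    hd.trans (Category.comp_id _)
  show ((((d.iso.hom ≫ φ₀.iso.hom) ≫ φ₀.iso.inv) ≫ _) ≫ c₁.m) = _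
  simp only [Category.assoc, Iso.hom_inv_id_assoc]
  exact hd'

theorem iso_of_extRel (hP : IsFibreProd p₁ p₂ p p) (hs : Function.Surjective p) {a b : ExtOf p 𝒳}
    (hab : extRel p 𝒳 a b) {η η' : DefSch X x D} (hη : Rel p₁ p₂ g X₀ φ₀ a η) (hη' : Rel p₁ p₂ g X₀ φ₀ b η') :
    Nonempty (DefSch.Iso η η') := by
  obtain ⟨ξ, c₁, c₂, c₃, hl⟩ := hη
  obtain ⟨ξ', c₁', c₂', c₃', hl'⟩ := hη'
  obtain ⟨ψ, hψ⟩ := hab
  have hψ' : (ψ.baseChange p).iso.hom ≫ b.2.iso.hom = a.2.iso.hom := congrArg (·.hom) hψ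
  obtain ⟨ν, -, -⟩ := exists_iso_glue hP hs c₁ c₃ c₁' c₃' _ _ hl (leg_f a) hl' (leg_f b) (DefSch.Iso.refl X₀) ψ (by
    simp only [← Category.assoc, hψ']
    simp [DefSch.Iso.refl])
  obtain ⟨d, -⟩ := exists_iso_of_cart c₂ c₂' ν
  exact ⟨d⟩

theorem extRel_of_iso (hP : IsFibreProd p₁ p₂ p p) (hD : IsFibreProd p₁ g (toBase C') (toBase D))
    {a b : ExtOf p 𝒳} {η η' : DefSch X x D} (hη : Rel p₁ p₂ g X₀ φ₀ a η) (hη' : Rel p₁ p₂ g X₀ φ₀ b η')
    (θ : DefSch.Iso η η') : extRel p 𝒳 a b := by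
  obtain ⟨ξ, c₁, c₂, c₃, hl⟩ := hη
  obtain ⟨ξ', c₁', c₂', c₃', hl'⟩ := hη'
  haveI := isIso_i_base (η.baseChange (toBase D))
  haveI := isIso_i_base (η'.baseChange (toBase D))
  let l := inv (η.baseChange (toBase D)).i ≫ X₀.i
  let l' := inv (η'.baseChange (toBase D)).i ≫ X₀.i
  have h1 : l ≫ c₁.m = pullback.fst η.f (specMap (toBase D)) ≫ c₂.m := by
    rw [Category.assoc, IsIso.inv_comp_eq, c₁.hi, ← Category.assoc, DefSch.baseChange_i_fst, c₂.hi]
  have h1' : l' ≫ c₁'.m = pullback.fst η'.f (specMap (toBase D)) ≫ c₂'.m := by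
    rw [Category.assoc, IsIso.inv_comp_eq, c₁'.hi, ← Category.assoc, DefSch.baseChange_i_fst, c₂'.hi]
  have hf : ∀ (ζ : DefSch X x D) [IsIso (ζ.baseChange (toBase D)).i],
      (inv (ζ.baseChange (toBase D)).i ≫ X₀.i) ≫ X₀.f = pullback.snd ζ.f (specMap (toBase D)) ≫ specMap (toBase C') := by
    intro ζ _
    rw [Category.assoc, IsIso.inv_comp_eq, X₀.i_f, ← Category.assoc]
    refine Eq.trans ?_ (congrArg (· ≫ specMap (toBase C')) (DefSch.baseChange_i_f ζ (toBase D))).symm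
    rw [Category.assoc, specRes_comp]
  obtain ⟨ν, hν, -⟩ := exists_iso_glue hD D.res_surjective c₁ c₂ c₁' c₂' l l' h1 (hf η) h1' (hf η')
    (DefSch.Iso.refl X₀) θ (by
      rw [← cancel_epi (η.baseChange (toBase D)).i, ← Category.assoc, (θ.baseChange (toBase D)).i_hom]
      simp [l, l', DefSch.Iso.refl])
  have hν' : c₁.m ≫ ν.iso.hom = c₁'.m := by simpa [DefSch.Iso.refl] using hν
  obtain ⟨ψ, hψ⟩ := exists_iso_of_cart c₃ c₃' ν
  refine ⟨ψ, CategoryTheory.Iso.ext ?_⟩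
  show (ψ.baseChange p).iso.hom ≫ b.2.iso.hom = a.2.iso.hom
  rw [← cancel_mono φ₀.iso.inv, Category.assoc]
  let q := c₁'.comp (cartBase p X₀)
  refine q.h.hom_ext ?_ ?_
  · show ((ψ.baseChange p).iso.hom ≫ b.2.iso.hom ≫ φ₀.iso.inv) ≫ pullback.fst X₀.f (specMap p) ≫ c₁'.m =
      (a.2.iso.hom ≫ φ₀.iso.inv) ≫ pullback.fst X₀.f (specMap p) ≫ c₁'.m
    have e1 := congrArg ((ψ.baseChange p).iso.hom ≫ ·) hl'
    simp only [Category.assoc] at e1 hl ⊢
    rw [e1, ← Category.assoc, baseChange_iso_fst, Category.assoc, hψ, ← Category.assoc (pullback.fst a.1.f _), ← hl,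
      ← hν']
    simp only [Category.assoc]
  · show ((ψ.baseChange p).iso.hom ≫ b.2.iso.hom ≫ φ₀.iso.inv) ≫ pullback.snd X₀.f (specMap p) =
      (a.2.iso.hom ≫ φ₀.iso.inv) ≫ pullback.snd X₀.f (specMap p)
    exact ((ψ.baseChange p).trans (b.2.trans φ₀.symm)).hom_f.trans (a.2.trans φ₀.symm).hom_f.symm

/-- Extensions correspond to deformations over the kernel's split extension. -/
theorem nonempty_ext_equiv (hP : IsFibreProd p₁ p₂ p p) (hs : Function.Surjective p)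
    (hD : IsFibreProd p₁ g (toBase C') (toBase D)) (X₀ : DefSch X x C') (φ₀ : (X₀.baseChange p).Iso 𝒳) :
    Nonempty (Quot (extRel p 𝒳) ≃ (defFunctor X x).obj D) := by
  choose f hf using fun a => rel_of_ext (g := g) φ₀ hP hs a
  refine ⟨Equiv.ofBijective (Quot.lift (fun a => (f a).cl)
    fun a b hab => Quotient.sound (iso_of_extRel φ₀ hP hs hab (hf a) (hf b))) ⟨?_, ?_⟩⟩
  · intro u v
    induction u using Quot.ind with
    | mk a =>
      induction v using Quot.ind with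
      | mk b =>
        intro h
        obtain ⟨θ⟩ := Quotient.exact (s := DefSch.setoid X x D) h
        exact Quot.sound (extRel_of_iso φ₀ hP hD (hf a) (hf b) θ)
  · intro t
    induction t using Quotient.inductionOn with
    | h η =>
      obtain ⟨a, ha⟩ := rel_of_def φ₀ hP hD η
      refine ⟨Quot.mk _ a, Quotient.sound ?_⟩
      exact iso_of_extRel φ₀ hP hs ⟨DefSch.Iso.refl _, CategoryTheory.Iso.ext (by
        show ((DefSch.Iso.refl a.1).baseChange p).iso.hom ≫ a.2.iso.hom = a.2.iso.hom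
        rw [← Category.id_comp a.2.iso.hom]
        congr 1
        apply pullback.hom_ext
        · rw [baseChange_iso_fst]; simp [DefSch.Iso.refl]
        · exact ((DefSch.Iso.refl a.1).baseChange p).hom_f.trans (Category.id_comp _).symm)⟩ (hf a) ha

section Powers

variable {F : Art Λ k ⥤ Type v}

/-- An element over `k[ε₁, …, ε_d]` is determined by its coordinates. -/
theorem dualN_elt_unique (h0 : H0 F) (h2 : Heps F) : ∀ (d : ℕ) (ξ ξ' : F.obj (ArtKit.dualN Λ k d)),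
    (∀ j, F.map (ArtKit.dualNHom (LinearMap.proj j)) ξ = F.map (ArtKit.dualNHom (LinearMap.proj j)) ξ') → ξ = ξ' := by
  intro d
  induction d with
  | zero =>
    intro ξ ξ' _
    have hid : Art.toBase (ArtKit.dualN Λ k 0) ≫ ArtKit.baseToDualN 0 = 𝟙 _ :=
      Art.hom_ext (AlgHom.ext fun (a : TrivSqZeroExt k (Fin 0 → k)) =>
        TrivSqZeroExt.ext rfl (funext fun j => j.elim0))
    rw [← ArtKit.map_id_app F ξ, ← ArtKit.map_id_app F ξ', ← hid, ArtKit.map_comp_app, ArtKit.map_comp_app]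
    exact congrArg _ (h0.2.elim _ _)
  | succ d ih =>
    intro ξ ξ' hξ
    let p' : ArtKit.dualN Λ k (d + 1) ⟶ ArtKit.dualN Λ k d :=
      ⟨Art.tszeMap (LinearMap.funLeft k k Fin.castSucc), AlgHom.ext fun _ => rfl⟩
    have hfp : Art.IsFibreProd p' (ArtKit.dualNHom (LinearMap.proj (Fin.last d))) (Art.toBase _) (Art.toBase _) := by
      refine ⟨by rw [Art.eq_toBase (p' ≫ Art.toBase _), Art.eq_toBase (ArtKit.dualNHom _ ≫ Art.toBase _)],
        fun b₁ b₂ h₁ h₂ => ?_, fun a' a'' h => ?_⟩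
      · refine TrivSqZeroExt.ext (by have e := congrArg TrivSqZeroExt.fst h₁; exact e) (funext fun i => ?_)
        have e := congrArg TrivSqZeroExt.snd h₁
        refine Fin.lastCases ?_ (fun j => ?_) i
        · have e' := congrArg TrivSqZeroExt.snd h₂
          exact e'
        · exact congrFun e j
      · have h' : a'.fst = a''.fst := h
        exact ⟨(a'.fst, Fin.snoc a'.snd a''.snd),
          TrivSqZeroExt.ext rfl (funext fun j => Fin.snoc_castSucc (α := fun _ => k) _ _ _),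
          TrivSqZeroExt.ext h' (Fin.snoc_last (α := fun _ => k) _ _)⟩
    refine (ArtKit.injective_cmp_iff hfp).1 (h2 _ _ hfp).1 ξ ξ' (ih _ _ fun j => ?_) (hξ _)
    rw [← ArtKit.map_comp_app, ← ArtKit.map_comp_app,
      show p' ≫ ArtKit.dualNHom (LinearMap.proj j) = ArtKit.dualNHom (LinearMap.proj j.castSucc) from
        ArtKit.dual_hom_ext fun x => rfl]
    exact hξ _

/-- Elements over `k[ε₁, …, ε_d]` are tuples of tangent vectors. -/
theorem dualN_elt_bijective (h0 : H0 F) (h2 : Heps F) (d : ℕ) : Function.Bijective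
    (fun ξ : F.obj (ArtKit.dualN Λ k d) => fun j => F.map (ArtKit.dualNHom (LinearMap.proj j)) ξ) := by
  refine ⟨fun ξ ξ' h => dualN_elt_unique h0 h2 d ξ ξ' (congrFun h), fun θ => ?_⟩
  obtain ⟨ξ, hξ⟩ := ArtKit.exists_dualN_elt h0 h2 d θ
  exact ⟨ξ, funext hξ⟩

end Powers

end Groth.Agent.DefFun
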