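import Groth.Agent.DefFun.Basic
import Groth.Agent.LCIDef.Main
import Groth.Agent.ArtFlat.Basic
import Groth.Agent.NilAffine.Main

/-!
# Affine models of deformations of an affine scheme
-/

set_option autoImplicit false
set_option linter.style.haveILetI false
set_option backward.isDefEq.respectTransparency false
set_option maxHeartbeats 800000

universe u

open CategoryTheory CategoryTheory.Limits AlgebraicGeometry IsLocalRing TensorProduct

noncomputable section

namespace Groth.Agent.DefFun

open ArtFun ArtFun.Art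

variable {Λ k A₀ : Type u} [CommRing Λ] [Field k] [Algebra Λ k] [CommRing A₀] [Algebra k A₀]

/-- A flat algebra with the given closed fibre. -/
structure Model (A₀ : Type u) [CommRing A₀] [Algebra k A₀] (A : Art Λ k) : Type (u + 1) where
  T : Type u
  [instRing : CommRing T]
  φ : A →+* T
  flat : φ.Flat
  q : T →+* A₀
  surj : Function.Surjective q
  ker : RingHom.ker q = (maximalIdeal A).map φ
  w : q.comp φ = (algebraMap k A₀).comp A.res.toRingHom

attribute [instance] Model.instRing

variable {A B : Art Λ k}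

theorem ker_res (A : Art Λ k) : RingHom.ker A.res.toRingHom = maximalIdeal A := by
  ext a; exact (A.mem_maximalIdeal_iff a).symm

/-- The deformation of a model. -/
abbrev Model.sch (M : Model A₀ A) :
    DefSch (Spec (CommRingCat.of A₀)) (Spec.map (CommRingCat.ofHom (algebraMap k A₀))) A where
  total := Spec (CommRingCat.of M.T)
  f := Spec.map (CommRingCat.ofHom M.φ)
  flat := (HasRingHomProperty.Spec_iff (P := @Flat)).2 M.flat
  i := Spec.map (CommRingCat.ofHom M.q)
  isPullback := isPullback_SpecMap_of_isPushout _ _ _ _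
    (LCIDef.isPushout_of_ker _ _ _ _ A.res_surjective M.surj (by rw [ker_res, M.ker]) M.w)

/-- The class of a model. -/
abbrev Model.cl (M : Model A₀ A) :
    (defFunctor (Λ := Λ) (Spec (CommRingCat.of A₀)) (Spec.map (CommRingCat.ofHom (algebraMap k A₀)))).obj A :=
  M.sch.cl

/-- Every deformation has a model. -/
theorem exists_model (c : (defFunctor (Λ := Λ) (Spec (CommRingCat.of A₀))
    (Spec.map (CommRingCat.ofHom (algebraMap k A₀)))).obj A) : ∃ M : Model A₀ A, M.cl = c := by
  induction c using Quotient.inductionOn with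
  | h ξ =>
  haveI : IsClosedImmersion (specRes A) := IsClosedImmersion.spec_of_surjective _ A.res_surjective
  haveI : Surjective (specRes A) := surjective_specMap (toBase A)
  haveI : IsClosedImmersion ξ.i := MorphismProperty.of_isPullback ξ.isPullback.flip inferInstance
  haveI : Surjective ξ.i := MorphismProperty.of_isPullback ξ.isPullback.flip inferInstance
  haveI : IsAffine ξ.total := NilAffine.isAffine_of_surjective ξ.i
  haveI : Flat ξ.f := ξ.flat
  let T : Type u := Γ(ξ.total, ⊤)
  let eT : ξ.total ≅ Spec (CommRingCat.of T) := ξ.total.isoSpec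
  obtain ⟨φ, hφ⟩ := Spec.map_surjective (eT.inv ≫ ξ.f)
  obtain ⟨q, hq'⟩ := Spec.map_surjective (ξ.i ≫ eT.hom)
  have hpb : IsPullback (Spec.map q) (Spec.map (CommRingCat.ofHom (algebraMap k A₀)))
      (Spec.map φ) (specRes A) := by
    rw [hφ, hq']
    exact ξ.isPullback.of_iso (Iso.refl _) eT (Iso.refl _) (Iso.refl _) (by simp) (by simp) (by simp) (by simp)
  have hflat : φ.hom.Flat := by
    have : Flat (Spec.map φ) := by rw [hφ]; infer_instance
    exact (HasRingHomProperty.Spec_iff (P := @Flat)).1 this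
  haveI : IsClosedImmersion (Spec.map (CommRingCat.ofHom q.hom)) := by
    rw [CommRingCat.ofHom_hom, hq']; infer_instance
  have hq : Function.Surjective q.hom := LCIDef.surjective_of_closedImmersion q.hom
  have hw : q.hom.comp φ.hom = (algebraMap k A₀).comp A.res.toRingHom := by
    have h := hpb.w
    rw [← Spec.map_comp, ← Spec.map_comp] at h
    exact congrArg CommRingCat.Hom.hom (Spec.map_injective h)
  have hker : RingHom.ker q.hom = (maximalIdeal A).map φ.hom := by
    refine le_antisymm ?_ (Ideal.map_le_iff_le_comap.mpr fun a ha => ?_)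
    · let mkZ := Ideal.Quotient.mk ((maximalIdeal A).map φ.hom)
      let u : k →+* T ⧸ (maximalIdeal A).map φ.hom := A.res.toRingHom.liftOfSurjective A.res_surjective
        ⟨mkZ.comp φ.hom, fun a ha => RingHom.mem_ker.mpr
          (Ideal.Quotient.eq_zero_iff_mem.mpr (Ideal.mem_map_of_mem _ (ker_res A ▸ ha)))⟩
      have hu : u.comp A.res.toRingHom = mkZ.comp φ.hom := RingHom.ext fun a => by
        simp only [u, RingHom.comp_apply]
        exact (LCIDef.lift_apply _ A.res_surjective _ a).trans rfl
      have hcone : Spec.map (CommRingCat.ofHom mkZ) ≫ Spec.map φ = Spec.map (CommRingCat.ofHom u) ≫ specRes A := by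
        rw [← Spec.map_comp, ← Spec.map_comp]
        exact congrArg Spec.map (CommRingCat.hom_ext hu.symm)
      obtain ⟨ψ, hψ⟩ := Spec.map_surjective (hpb.lift _ _ hcone)
      have h := hpb.lift_fst _ _ hcone
      rw [← hψ, ← Spec.map_comp] at h
      have h' := congrArg CommRingCat.Hom.hom (Spec.map_injective h)
      intro x hx
      rw [← Ideal.Quotient.eq_zero_iff_mem]
      exact (RingHom.congr_fun h' x).symm.trans ((congrArg ψ.hom (RingHom.mem_ker.mp hx)).trans (map_zero _))
    · rw [← ker_res, RingHom.mem_ker] at ha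
      rw [Ideal.mem_comap, RingHom.mem_ker, ← RingHom.comp_apply, hw, RingHom.comp_apply, ha, map_zero]
  refine ⟨⟨T, φ.hom, hflat, q.hom, hq, hker, hw⟩, Quotient.sound ⟨⟨eT.symm, ?_, ?_⟩⟩⟩
  · show eT.inv ≫ ξ.f = _
    rw [← hφ]; rfl
  · show Spec.map q ≫ eT.inv = _
    rw [hq', Category.assoc, Iso.hom_inv_id, Category.comp_id]

/-- A map into a flat algebra which is the identity on closed fibres is bijective. -/
theorem bijective_of_fibre {R T T' : Type u} [CommRing R] [CommRing T] [CommRing T'] [Algebra R T] [Algebra R T']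
    [Module.Flat R T'] {I : Ideal R} (hI : IsNilpotent I) {C : Type u} [CommRing C] (h : T →ₐ[R] T')
    (q : T →+* C) (q' : T' →+* C) (hq : Function.Surjective q) (hh : ∀ t, q' (h t) = q t)
    (hk : RingHom.ker q ≤ I.map (algebraMap R T)) (hk' : RingHom.ker q' = I.map (algebraMap R T')) :
    Function.Bijective h := by
  refine ArtFlat.bijective_of_baseChange hI h.toLinearMap ⟨?_, ?_⟩
  · rw [injective_iff_map_eq_zero]
    intro z hz
    obtain ⟨t, rfl⟩ := TensorProduct.mk_surjective R T (R ⧸ I) Ideal.Quotient.mk_surjective z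
    rw [TensorProduct.mk_apply, LinearMap.lTensor_tmul] at hz
    have h1 : h t ∈ (I • ⊤ : Submodule R T') := by
      rw [← LinearMap.ker_tensorProductMk]; exact hz
    rw [Ideal.smul_top_eq_map, Submodule.restrictScalars_mem, ← hk', RingHom.mem_ker, hh] at h1
    have h2 : t ∈ (I • ⊤ : Submodule R T) := by
      rw [Ideal.smul_top_eq_map, Submodule.restrictScalars_mem]; exact hk (RingHom.mem_ker.2 h1)
    rw [← LinearMap.ker_tensorProductMk] at h2
    exact h2
  · intro z
    obtain ⟨y, rfl⟩ := TensorProduct.mk_surjective R T' (R ⧸ I) Ideal.Quotient.mk_surjective z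
    obtain ⟨t, ht⟩ := hq (q' y)
    refine ⟨1 ⊗ₜ t, ?_⟩
    have h1 : y - h t ∈ (I • ⊤ : Submodule R T') := by
      rw [Ideal.smul_top_eq_map, Submodule.restrictScalars_mem, ← hk', RingHom.mem_ker, map_sub, hh, ht, sub_self]
    rw [← LinearMap.ker_tensorProductMk, LinearMap.mem_ker, map_sub, sub_eq_zero] at h1
    rw [LinearMap.lTensor_tmul]
    exact h1.symm

/-- A compatible map of models is a base change. -/
theorem Model.map_cl (g : A ⟶ B) (M : Model A₀ A) (N : Model A₀ B) (m : M.T →+* N.T)
    (hφ : m.comp M.φ = N.φ.comp g.toAlgHom.toRingHom) (hq : N.q.comp m = M.q) :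
    (defFunctor _ _).map g M.cl = N.cl := by
  letI := M.φ.toAlgebra
  letI := N.φ.toAlgebra
  letI := g.toAlgHom.toRingHom.toAlgebra
  letI : Algebra A N.T := (m.comp M.φ).toAlgebra
  haveI : IsScalarTower A B N.T := IsScalarTower.of_algebraMap_eq fun a => RingHom.congr_fun hφ a
  haveI : Module.Flat B N.T := N.flat
  let mA : M.T →ₐ[A] N.T := { m with commutes' := fun a => rfl }
  let h : B ⊗[A] M.T →ₐ[B] N.T :=
    Algebra.TensorProduct.lift (Algebra.ofId B N.T) mA fun _ _ => .all _ _
  have hh : ∀ t, h (1 ⊗ₜ t) = m t := fun t => by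
    simp only [h, Algebra.TensorProduct.lift_tmul, map_one, one_mul]; rfl
  have hk : RingHom.ker (N.q.comp h.toRingHom) ≤ (maximalIdeal B).map (algebraMap B (B ⊗[A] M.T)) := by
    have key : ∀ z : B ⊗[A] M.T, ∃ t, z - 1 ⊗ₜ t ∈ (maximalIdeal B).map (algebraMap B (B ⊗[A] M.T)) := fun z => by
      induction z using TensorProduct.induction_on with
      | zero => exact ⟨0, by simp⟩
      | tmul b t =>
        obtain ⟨a, ha⟩ := A.res_surjective (B.res b)
        refine ⟨a • t, ?_⟩
        rw [show (b ⊗ₜ[A] t : B ⊗[A] M.T) - 1 ⊗ₜ (a • t) = algebraMap B _ (b - g a) * (1 ⊗ₜ t) by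
          rw [Algebra.TensorProduct.algebraMap_apply, Algebra.TensorProduct.tmul_mul_tmul, Algebra.algebraMap_self_apply,
            one_mul, mul_one, TensorProduct.sub_tmul, ← TensorProduct.smul_tmul, Algebra.smul_def, mul_one]
          rfl]
        refine Ideal.mul_mem_right _ _ (Ideal.mem_map_of_mem _ ?_)
        rw [B.mem_maximalIdeal_iff, map_sub, res_app, ha, sub_self]
      | add z z' hz hz' =>
        obtain ⟨t, ht⟩ := hz
        obtain ⟨t', ht'⟩ := hz'
        exact ⟨t + t', by rw [tmul_add, add_sub_add_comm]; exact add_mem ht ht'⟩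
    intro z hz
    obtain ⟨t, ht⟩ := key z
    have hm : (maximalIdeal B).map (algebraMap B (B ⊗[A] M.T)) ≤ RingHom.ker (N.q.comp h.toRingHom) := by
      rw [Ideal.map_le_iff_le_comap]
      intro b hb
      have e : N.φ b ∈ RingHom.ker N.q := N.ker ▸ Ideal.mem_map_of_mem _ hb
      rw [Ideal.mem_comap, RingHom.mem_ker, RingHom.comp_apply]
      exact (congrArg N.q (h.commutes b)).trans e
    have h1 : M.q t = 0 := by
      have := RingHom.mem_ker.1 (hm ht)
      rw [map_sub, RingHom.mem_ker.1 hz, zero_sub, neg_eq_zero, RingHom.comp_apply] at this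
      rwa [← hq, RingHom.comp_apply, ← hh t]
    have h2 : (1 : B) ⊗ₜ[A] t ∈ (maximalIdeal B).map (algebraMap B (B ⊗[A] M.T)) := by
      have h3 : (maximalIdeal A).map M.φ ≤ ((maximalIdeal B).map (algebraMap B (B ⊗[A] M.T))).comap
          (Algebra.TensorProduct.includeRight : M.T →ₐ[A] B ⊗[A] M.T).toRingHom := by
        rw [Ideal.map_le_iff_le_comap]
        intro a ha
        rw [Ideal.mem_comap, Ideal.mem_comap]
        show (1 : B) ⊗ₜ[A] algebraMap A M.T a ∈ _
        rw [← Algebra.TensorProduct.algebraMap_apply', IsScalarTower.algebraMap_apply A B]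
        refine Ideal.mem_map_of_mem _ ?_
        show g a ∈ _
        rw [B.mem_maximalIdeal_iff, res_app, ← A.mem_maximalIdeal_iff]
        exact ha
      exact h3 (M.ker ▸ RingHom.mem_ker.2 h1)
    have := add_mem ht h2
    rwa [sub_add_cancel] at this
  have hbij : Function.Bijective h := bijective_of_fibre ArtFlat.isNilpotent_maximalIdeal h
    (N.q.comp h.toRingHom) N.q
    (fun c => by obtain ⟨t, rfl⟩ := M.surj c; exact ⟨1 ⊗ₜ t, by rw [← hq]; exact congrArg N.q (hh t)⟩)
    (fun _ => rfl) hk N.ker
  let eh : CommRingCat.of (B ⊗[A] M.T) ≅ CommRingCat.of N.T :=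
    (AlgEquiv.ofBijective h hbij).toRingEquiv.toCommRingCatIso
  have hpo : IsPushout (CommRingCat.ofHom g.toAlgHom.toRingHom) (CommRingCat.ofHom M.φ)
      (CommRingCat.ofHom N.φ) (CommRingCat.ofHom m) :=
    (CommRingCat.isPushout_tensorProduct A B M.T).of_iso (Iso.refl _) (Iso.refl _) (Iso.refl _) eh
      (by simp; rfl) (by simp; rfl) (by ext b; exact h.commutes b) (by ext t; simpa [eh] using hh t)
  have H : IsPullback (Spec.map (CommRingCat.ofHom m)) (Spec.map (CommRingCat.ofHom N.φ))
      M.sch.f (specMap g) := isPullback_SpecMap_of_isPushout _ _ _ _ hpo.flip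
  let ei := (IsPullback.of_hasPullback M.sch.f (specMap g)).isoIsPullback _ _ H
  refine Quotient.sound ⟨⟨ei, IsPullback.isoIsPullback_hom_snd _ _ _ _, ?_⟩⟩
  show (M.sch.baseChange g).i ≫ ei.hom = N.sch.i
  apply H.hom_ext
  · rw [Category.assoc, IsPullback.isoIsPullback_hom_fst, DefSch.baseChange_i_fst]
    show Spec.map _ = Spec.map _ ≫ Spec.map _
    rw [← Spec.map_comp, ← CommRingCat.ofHom_comp, hq]
  · rw [Category.assoc, IsPullback.isoIsPullback_hom_snd, DefSch.baseChange_i_f]
    exact N.sch.i_f.symm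

end Groth.Agent.DefFun
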