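import Groth.Agent.ArtKit.SmoothRing
import Groth.Agent.ArtKit.Cotangent

/-!
# Versal small prolongations
-/

set_option autoImplicit false
set_option backward.isDefEq.respectTransparency false
universe u v

open CategoryTheory ArtFun IsLocalRing MvPolynomial

namespace Groth.Agent.DefFun

open ArtKit

variable {Λ k : Type u} [CommRing Λ] [Field k] [Algebra Λ k] [IsNoetherianRing Λ]
variable {F : Art Λ k ⥤ Type v}

theorem isSmallExt_dual : Art.IsSmallExt (Art.toBase (Art.dual Λ k)) := by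
  refine ⟨(Art.dual Λ k).res_surjective, fun h => ?_, ⟨⟨(DualNumber.eps : DualNumber k), ?_⟩⟩, ?_⟩
  · have hm : (DualNumber.eps : DualNumber k) ∈ RingHom.ker (Art.toBase (Art.dual Λ k)).toAlgHom :=
      RingHom.mem_ker.2 rfl
    rw [h, Ideal.mem_bot] at hm
    exact one_ne_zero (congrArg TrivSqZeroExt.snd hm)
  · refine le_antisymm (fun z hz => ?_) ((Ideal.span_singleton_le_iff_mem _).2 (RingHom.mem_ker.2 rfl))
    let z' : DualNumber k := z
    have h : z'.fst = 0 := RingHom.mem_ker.1 hz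
    refine Ideal.mem_span_singleton'.2 ⟨(TrivSqZeroExt.inl z'.snd : DualNumber k), ?_⟩
    exact TrivSqZeroExt.ext (by rw [TrivSqZeroExt.fst_mul]; simp [h]; exact h.symm)
      (by show TrivSqZeroExt.snd (TrivSqZeroExt.inl z'.snd * (DualNumber.eps : DualNumber k)) = z'.snd; simp)
  · refine le_bot_iff.1 (Ideal.mul_le.2 fun m hm n hn => ?_)
    let m' : DualNumber k := m
    let n' : DualNumber k := n
    have h1 : m'.fst = 0 := ((Art.dual Λ k).mem_maximalIdeal_iff m).1 hm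
    have h2 : n'.fst = 0 := RingHom.mem_ker.1 hn
    rw [Ideal.mem_bot]
    show m' * n' = 0
    exact TrivSqZeroExt.ext (by simp [h1]) (by simp [h1, h2])

variable [Module.Finite Λ k]

/-- With versality for small prolongations of the base point, an element can be matched by a lift. -/
theorem exists_map_over (hF : H0 F ∧ S1 F ∧ Heps F) {R R₁ R' : Art Λ k} (π₁ : R₁ ⟶ R) (hπ : Art.IsSmallExt π₁)
    (g : R' ⟶ R) (a : F.obj R) (a₁ : F.obj R₁) (a' : F.obj R') (h₁ : F.map π₁ a₁ = a) (h' : F.map g a' = a)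
    (hvers : ∀ R₀ : Art Λ k, Art.IsSmallExt (Art.toBase R₀) → ∀ b : F.obj R₀, ∃ φ : R ⟶ R₀, F.map φ a = b)
    (f₀ : R' ⟶ R₁) (hf₀ : f₀ ≫ π₁ = g) : ∃ f : R' ⟶ R₁, f ≫ π₁ = g ∧ F.map f a' = a₁ := by
  obtain ⟨h0, h1, h2⟩ := hF
  obtain ⟨t, P, p₁, p₂, e, -, -, hP, hP', -⟩ := exists_action_data π₁ hπ
  obtain ⟨w, hw₁, hw₂⟩ := (surjective_cmp_iff hP).1 (h1 p₁ p₂ π₁ π₁ hP hπ.1) (F.map f₀ a') a₁
    (by rw [← map_comp_app, hf₀, h', h₁])
  obtain ⟨φ, hφ⟩ := hvers _ isSmallExt_dual (F.map e w)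
  obtain ⟨δ, hδ₁, hδ₂⟩ := ArtKit.exists_lift hP' f₀ (g ≫ φ) ((Art.eq_toBase _).trans (Art.eq_toBase _).symm)
  have hδw : F.map δ a' = w := (injective_cmp_iff hP').1 (h2 _ _ hP').1 _ _
    (by rw [← map_comp_app, hδ₁, hw₁]) (by rw [← map_comp_app, hδ₂, map_comp_app, h', hφ])
  exact ⟨δ ≫ p₂, by rw [Category.assoc, ← hP.w, ← Category.assoc, hδ₁, hf₀], by rw [map_comp_app, hδw, hw₂]⟩

/-- The universal essential semismall prolongation. -/
theorem exists_semismall [IsLocalRing Λ] (hk : Function.Surjective (algebraMap Λ k)) (h1 : S1 F) (R : Art Λ k)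
    (a : F.obj R) : ∃ (R' : Art Λ k) (q : R' ⟶ R) (a' : F.obj R'), F.map q a' = a ∧ Art.IsSemismallExt q ∧
      (∀ x' : R', x' ∈ maximalIdeal (R' : Type u) → q x' ∈ maximalIdeal (R : Type u) ^ 2 ⊔ (maximalIdeal Λ).map
        (algebraMap Λ R) → x' ∈ maximalIdeal (R' : Type u) ^ 2 ⊔ (maximalIdeal Λ).map (algebraMap Λ R')) ∧
      ∀ (R₁ : Art Λ k) (π₁ : R₁ ⟶ R), Art.IsSmallExt π₁ → ∀ a₁ : F.obj R₁, F.map π₁ a₁ = a →
        ∃ f : R' ⟶ R₁, f ≫ π₁ = q := by
  classical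
  have hmΛ : maximalIdeal Λ = RingHom.ker (algebraMap Λ k) :=
    (IsLocalRing.eq_maximalIdeal (RingHom.ker_isMaximal_of_surjective _ hk)).symm
  -- minimal generators of the relative cotangent space
  let JR : Ideal R := maximalIdeal (R : Type u) ^ 2 ⊔ (maximalIdeal Λ).map (algebraMap Λ R)
  let G : Set ℕ := {d | ∃ b : Fin d → R, (∀ j, R.res (b j) = 0) ∧ maximalIdeal (R : Type u) ≤ Ideal.span (Set.range b) ⊔ JR}
  have hG : G.Nonempty := by
    obtain ⟨s, hs⟩ := (inferInstance : IsNoetherian R R).noetherian (maximalIdeal (R : Type u))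
    refine ⟨s.card, fun j => (s.equivFin.symm j).1, fun j => (R.mem_maximalIdeal_iff _).1 ?_, ?_⟩
    · exact hs.le (Submodule.subset_span (s.equivFin.symm j).2)
    · refine le_trans hs.ge (le_sup_of_le_left (Submodule.span_le.2 fun y hy => Ideal.subset_span ?_))
      exact ⟨s.equivFin ⟨y, hy⟩, by simp⟩
  let d := WellFounded.min Nat.lt_wfRel.wf G hG
  obtain ⟨b, hb0, hbm⟩ : d ∈ G := WellFounded.min_mem _ G hG
  let c : Fin 0 → k := Fin.elim0
  have hc : Function.Surjective (aeval (R := Λ) c) := fun y => by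
    obtain ⟨l, rfl⟩ := hk y
    exact ⟨C l, by simp⟩
  obtain ⟨S, x, y, -, hy0, hsm, hext, hex, -⟩ := exists_smoothRing c hc d
  let ι : ∀ E : Art Λ k, (∀ l ∈ maximalIdeal Λ, algebraMap Λ E l = 0) → (Art.base Λ k ⟶ E) := fun E hE =>
    Art.homMk (AlgHom.liftOfSurjective (Algebra.ofId Λ k) hk (Algebra.ofId Λ E) fun l hl => hE l (hmΛ ▸ hl))
      (AlgHom.ext fun z => by
        obtain ⟨l, rfl⟩ := hk z
        refine (congrArg E.res (AlgHom.liftOfSurjective_apply (Algebra.ofId Λ k) hk (Algebra.ofId Λ E) (fun l hl => hE l (hmΛ ▸ hl)) l)).trans ?_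
        exact E.res.commutes l)
  have hIS : ∀ E : Art Λ k, ∀ s : S.carrier, ∀ φ : HomSet S.carrier S.res E, s ∈ maximalIdeal S.carrier →
      φ.1 s ∈ maximalIdeal (E : Type u) := fun E s φ hs => by
    rw [Art.mem_maximalIdeal_iff, homSet_res_app, ← CRing.mem_maximalIdeal_iff]; exact hs
  -- generators of the relative cotangent space of `S`
  have hgenS : maximalIdeal S.carrier ≤
      Ideal.span (Set.range y) ⊔ (maximalIdeal S.carrier ^ 2 ⊔ (maximalIdeal Λ).map (algebraMap Λ S.carrier)) := by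
    set J' := Ideal.span (Set.range y) ⊔ (maximalIdeal S.carrier ^ 2 ⊔ (maximalIdeal Λ).map (algebraMap Λ S.carrier))
    have hJ' : J' ≤ maximalIdeal S.carrier := by
      refine sup_le (Ideal.span_le.2 ?_) (sup_le (Ideal.pow_le_self two_ne_zero) (Ideal.map_le_iff_le_comap.2 fun l hl => ?_))
      · rintro _ ⟨j, rfl⟩; exact (CRing.mem_maximalIdeal_iff S _).2 (hy0 j)
      · rw [Ideal.mem_comap, CRing.mem_maximalIdeal_iff, AlgHom.commutes]
        exact RingHom.mem_ker.1 (hmΛ ▸ hl : l ∈ RingHom.ker (algebraMap Λ k))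
    obtain ⟨E, χ, hχs, hχk⟩ := exists_artQuot S J' hJ' 1 (le_sup_of_le_right le_sup_left)
    have hE : ∀ l ∈ maximalIdeal Λ, algebraMap Λ E l = 0 := fun l hl => by
      rw [← χ.1.commutes]
      exact RingHom.mem_ker.1 (hχk.ge (Ideal.mem_sup_right (Ideal.mem_sup_right (Ideal.mem_map_of_mem _ hl))))
    let τ : HomSet S.carrier S.res E := ⟨(ι E hE).toAlgHom.comp S.res, AlgHom.ext fun s => Art.res_app (ι E hE) _⟩
    have hτ : χ = τ := hext χ τ (fun i => i.elim0) fun j => by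
      rw [RingHom.mem_ker.1 (hχk.ge (Ideal.mem_sup_left (Ideal.subset_span ⟨j, rfl⟩)) : y j ∈ RingHom.ker χ.1)]
      exact ((congrArg (ι E hE).toAlgHom (hy0 j)).trans (map_zero _)).symm
    intro s hs
    refine hχk.le (RingHom.mem_ker.2 ?_)
    rw [hτ]
    exact (congrArg (ι E hE).toAlgHom ((CRing.mem_maximalIdeal_iff S s).1 hs)).trans (map_zero _)
  -- a presentation of `R`
  let MR : Ideal R := (maximalIdeal Λ).map (algebraMap Λ R)
  have hMR : MR ≤ maximalIdeal (R : Type u) := Ideal.map_le_iff_le_comap.2 fun l hl =>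
    (R.mem_maximalIdeal_iff _).2 ((R.res.commutes l).trans (RingHom.mem_ker.1 (hmΛ ▸ hl : l ∈ RingHom.ker (algebraMap Λ k))))
  have hE : ∀ l ∈ maximalIdeal Λ, algebraMap Λ (Art.quot R MR hMR) l = 0 := fun l hl => by
    rw [← (Art.quotMk R MR hMR).toAlgHom.commutes]
    exact Ideal.Quotient.eq_zero_iff_mem.2 (Ideal.mem_map_of_mem _ hl)
  obtain ⟨φb, -, hφb⟩ := hex (Art.quot R MR hMR) (ι _ hE) (fun j => Art.quotMk R MR hMR (b j))
    fun j => (Art.res_app _ _).trans (hb0 j)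
  obtain ⟨π, hπq⟩ := hsm (Art.quotMk R MR hMR) (Art.quotMk_surjective R MR hMR) φb
  let b' : Fin d → R := fun j => π.1 (y j)
  have hbb : ∀ j, b j - b' j ∈ JR := fun j => by
    refine Ideal.mem_sup_right (Ideal.Quotient.eq.1 ?_)
    exact (hφb j).symm.trans (DFunLike.congr_fun (congrArg Subtype.val hπq) (y j)).symm
  replace hbm : maximalIdeal (R : Type u) ≤ Ideal.span (Set.range b') ⊔ JR :=
    hbm.trans (sup_le (Ideal.span_le.2 (by
      rintro _ ⟨j, rfl⟩
      rw [← sub_add_cancel (b j) (b' j)]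
      exact add_mem (Ideal.mem_sup_right (hbb j)) (Ideal.mem_sup_left (Ideal.subset_span ⟨j, rfl⟩)))) le_sup_right)
  have hb0' : ∀ j, R.res (b' j) = 0 := fun j => (homSet_res_app π _).trans (hy0 j)
  have hπy : ∀ j, π.1 (y j) = b' j := fun _ => rfl
  have hπs : Function.Surjective π.1 := by
    have := S.isAdicComplete
    refine ((surjective_tfae_cotangent S.res_surjective R.res_surjective π.1 π.2).out 0 2).2 ?_
    refine le_antisymm (sup_le (sup_le ?_ ?_) (Ideal.pow_le_self two_ne_zero)) ?_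
    · rw [← hmΛ]
      exact Ideal.map_le_iff_le_comap.2 fun l hl => (R.mem_maximalIdeal_iff _).2 ((R.res.commutes l).trans
        (RingHom.mem_ker.1 (hmΛ ▸ hl : l ∈ RingHom.ker (algebraMap Λ k))))
    · exact Ideal.map_le_iff_le_comap.2 fun s hs => hIS R s π hs
    · refine hbm.trans (sup_le (Ideal.span_le.2 ?_) (sup_le le_sup_right ?_))
      · rintro _ ⟨j, rfl⟩
        exact Ideal.mem_sup_left (Ideal.mem_sup_right (hπy j ▸ Ideal.mem_map_of_mem _ ((CRing.mem_maximalIdeal_iff S _).2 (hy0 j))))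
      · rw [← hmΛ]; exact le_sup_of_le_left le_sup_left
  have hcot : ∀ s ∈ maximalIdeal S.carrier, π.1 s ∈ JR →
      s ∈ maximalIdeal S.carrier ^ 2 ⊔ (maximalIdeal Λ).map (algebraMap Λ S.carrier) := by
    intro s hs hπ
    obtain ⟨u, hu, v, hv, rfl⟩ := Submodule.mem_sup.1 (hgenS hs)
    obtain ⟨α, rfl⟩ := Submodule.mem_span_range_iff_exists_fun _ |>.1 hu
    refine add_mem (sum_mem fun j _ => ?_) hv
    have hα : α j ∈ maximalIdeal S.carrier := by
      by_contra hαj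
      -- `b j` would be redundant
      have hu : IsUnit (π.1 (α j)) := ((not_not.1 fun hn => hαj ((IsLocalRing.mem_maximalIdeal _).2 hn)) : IsUnit (α j)).map π.1
      have hvR : π.1 v ∈ JR := by
        have hle : (maximalIdeal S.carrier ^ 2 ⊔ (maximalIdeal Λ).map (algebraMap Λ S.carrier)).map π.1 ≤ JR := by
          rw [Ideal.map_sup, Ideal.map_pow]
          refine sup_le_sup (pow_le_pow_left' (Ideal.map_le_iff_le_comap.2 fun s hs => Ideal.mem_comap.2 (hIS R s π hs)) 2) ?_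
          rw [Ideal.map_le_iff_le_comap, Ideal.map_le_iff_le_comap]
          intro l hl
          rw [Ideal.mem_comap, Ideal.mem_comap, AlgHom.commutes]
          exact Ideal.mem_map_of_mem _ hl
        exact hle (Ideal.mem_map_of_mem _ hv)
      obtain ⟨d', hd'⟩ : ∃ d', d = d' + 1 := ⟨d - 1, by have := j.2; omega⟩
      refine WellFounded.not_lt_min Nat.lt_wfRel.wf G (x := d') ?_ (show d' < d by omega)
      let e : Fin d' → Fin d := fun l => Fin.cast hd'.symm ((Fin.cast hd' j).succAbove l)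
      refine ⟨b' ∘ e, fun l => hb0' _, hbm.trans (sup_le (Ideal.span_le.2 ?_) le_sup_right)⟩
      rintro _ ⟨i, rfl⟩
      by_cases hij : i = j
      · subst hij
        rw [map_add, map_sum] at hπ
        have hsum : ∑ l, π.1 (α l • y l) ∈ Ideal.span (Set.range (b' ∘ e)) ⊔ JR := by
          rw [show ∑ l, π.1 (α l • y l) = (∑ l, π.1 (α l • y l) + π.1 v) - π.1 v by ring]
          exact sub_mem (Ideal.mem_sup_right hπ) (Ideal.mem_sup_right hvR)
        rw [← Finset.add_sum_erase _ _ (Finset.mem_univ i)] at hsum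
        have hrest : ∑ l ∈ Finset.univ.erase i, π.1 (α l • y l) ∈ Ideal.span (Set.range (b' ∘ e)) ⊔ JR := by
          refine sum_mem fun l hl => Ideal.mem_sup_left ?_
          rw [smul_eq_mul, map_mul, hπy]
          refine Ideal.mul_mem_left _ _ (Ideal.subset_span ?_)
          obtain ⟨l', hl'⟩ := Fin.exists_succAbove_eq (x := Fin.cast hd' l) (y := Fin.cast hd' i)
            (fun h => (Finset.mem_erase.1 hl).1 (Fin.cast_injective _ h))
          exact ⟨l', by simp [e, hl']⟩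
        have := sub_mem hsum hrest
        rw [add_sub_cancel_right, smul_eq_mul, map_mul, hπy] at this
        exact (Ideal.unit_mul_mem_iff_mem _ hu).1 this
      · obtain ⟨l', hl'⟩ := Fin.exists_succAbove_eq (x := Fin.cast hd' i) (y := Fin.cast hd' j)
          (fun h => hij (Fin.cast_injective _ h))
        exact Ideal.mem_sup_left (Ideal.subset_span ⟨l', by simp [e, hl']⟩)
    refine Ideal.mem_sup_left ?_
    rw [sq, smul_eq_mul]
    exact Ideal.mul_mem_mul hα ((CRing.mem_maximalIdeal_iff S _).2 (hy0 j))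
  -- the prolongation
  obtain ⟨n, hn⟩ := exists_pow_le_ker S π
  obtain ⟨B, χB, hχB, hkerB⟩ := exists_artQuot S (maximalIdeal S.carrier * RingHom.ker π.1) Ideal.mul_le_left (n + 1)
    (by rw [pow_succ']; exact mul_le_mul_right hn _)
  obtain ⟨p, hp⟩ := exists_hom_of_ker_le χB hχB π (by rw [hkerB]; exact Ideal.mul_le_right)
  have hps : Function.Surjective p := fun z => by
    obtain ⟨s, rfl⟩ := hπs z
    exact ⟨χB.1 s, DFunLike.congr_fun (congrArg Subtype.val hp) s⟩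
  have hsemi : Art.IsSemismallExt p := ⟨hps, le_bot_iff.1 (Ideal.mul_le.2 fun m hm j hj => by
    obtain ⟨s, rfl⟩ := hχB m
    obtain ⟨s', rfl⟩ := hχB j
    rw [Art.mem_maximalIdeal_iff, homSet_res_app, ← CRing.mem_maximalIdeal_iff] at hm
    have hs' : s' ∈ RingHom.ker π.1 := RingHom.mem_ker.2
      ((DFunLike.congr_fun (congrArg Subtype.val hp) s').symm.trans (RingHom.mem_ker.1 hj))
    rw [Ideal.mem_bot, ← map_mul, ← RingHom.mem_ker, hkerB]
    exact Ideal.mul_mem_mul hm hs')⟩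
  obtain ⟨J₀, hJ₀, hJ₀', ⟨y₀, hy₀⟩, hmin⟩ := exists_least_ideal h1 p hsemi a
  let q := Art.quotFactor hJ₀' p hJ₀
  refine ⟨Art.quot B J₀ hJ₀', q, y₀, hy₀, ⟨fun z => ?_, ?_⟩, fun x' hx' hqx => ?_, fun R₁ π₁ hπ₁ a₁ ha₁ => ?_⟩
  · obtain ⟨w, hw⟩ := hps z
    exact ⟨Art.quotMk B J₀ hJ₀' w, (quotFactor_mk hJ₀' p hJ₀ w).trans hw⟩
  · refine le_bot_iff.1 (Ideal.mul_le.2 fun m hm j hj => ?_)
    obtain ⟨m, rfl⟩ := Art.quotMk_surjective B J₀ hJ₀' m
    obtain ⟨j, rfl⟩ := Art.quotMk_surjective B J₀ hJ₀' j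
    rw [Art.mem_maximalIdeal_iff, Art.res_app, ← Art.mem_maximalIdeal_iff] at hm
    have hj' : j ∈ RingHom.ker p.toAlgHom :=
      RingHom.mem_ker.2 ((quotFactor_mk hJ₀' p hJ₀ j).symm.trans (RingHom.mem_ker.1 hj))
    rw [Ideal.mem_bot, ← map_mul, Ideal.mem_bot.1 (le_of_eq hsemi.2 (Ideal.mul_mem_mul hm hj')), map_zero]
  · let χ' := HomSet.map (Art.quotMk B J₀ hJ₀') χB
    obtain ⟨s, rfl⟩ : ∃ s, χ'.1 s = x' := (Art.quotMk_surjective B J₀ hJ₀').comp hχB x'
    have hs : s ∈ maximalIdeal S.carrier := by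
      rw [Art.mem_maximalIdeal_iff, homSet_res_app, ← CRing.mem_maximalIdeal_iff] at hx'; exact hx'
    have hqs : q (χ'.1 s) = π.1 s :=
      (quotFactor_mk hJ₀' p hJ₀ (χB.1 s)).trans (DFunLike.congr_fun (congrArg Subtype.val hp) s)
    rw [hqs] at hqx
    have := Ideal.mem_map_of_mem χ'.1 (hcot s hs hqx)
    rw [Ideal.map_sup, Ideal.map_pow] at this
    refine (sup_le_sup (pow_le_pow_left' (Ideal.map_le_iff_le_comap.2 fun s hs => Ideal.mem_comap.2 (hIS _ s χ' hs)) 2) ?_ :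
      _ ≤ maximalIdeal ((Art.quot B J₀ hJ₀' : Art Λ k) : Type u) ^ 2 ⊔ (maximalIdeal Λ).map (algebraMap Λ (Art.quot B J₀ hJ₀'))) this
    rw [Ideal.map_le_iff_le_comap, Ideal.map_le_iff_le_comap]
    intro l hl
    rw [Ideal.mem_comap, Ideal.mem_comap, AlgHom.commutes]
    exact Ideal.mem_map_of_mem _ hl
  · obtain ⟨χ₁, hχ₁⟩ := hsm π₁ hπ₁.1 π
    have hχ₁' : ∀ s, π₁ (χ₁.1 s) = π.1 s := fun s => DFunLike.congr_fun (congrArg Subtype.val hχ₁) s
    have hm₁ : maximalIdeal S.carrier * RingHom.ker π.1 ≤ RingHom.ker χ₁.1 := Ideal.mul_le.2 fun m hm j hj => by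
      have h3 : χ₁.1 j ∈ RingHom.ker π₁.toAlgHom := RingHom.mem_ker.2 ((hχ₁' j).trans (RingHom.mem_ker.1 hj))
      rw [RingHom.mem_ker, map_mul]
      exact Ideal.mem_bot.1 (hπ₁.2.2.2 ▸ Ideal.mul_mem_mul (hIS R₁ m χ₁ hm) h3)
    obtain ⟨r, hr⟩ := exists_hom_of_ker_le χB hχB χ₁ (hkerB.le.trans hm₁)
    have hrp : r ≫ π₁ = p := hom_ext_of_homSet χB hχB (by rw [homSet_map_comp, hr, hp]; exact hχ₁)
    suffices hle : J₀ ≤ RingHom.ker r.toAlgHom by
      refine ⟨Art.quotFactor hJ₀' r hle, hom_ext_of_surjective (Art.quotMk_surjective B J₀ hJ₀') ?_⟩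
      rw [← Category.assoc, Art.quotMk_quotFactor, Art.quotMk_quotFactor, hrp]
    by_cases hker : RingHom.ker p.toAlgHom ≤ RingHom.ker r.toAlgHom
    · exact hJ₀.trans hker
    obtain ⟨z, hzp, hzr⟩ := SetLike.not_le_iff_exists.1 hker
    have hzk : r z ∈ RingHom.ker π₁.toAlgHom := RingHom.mem_ker.2 (by
      show π₁ (r z) = 0
      rw [← Art.comp_apply, hrp]; exact RingHom.mem_ker.1 hzp)
    obtain ⟨t, ht⟩ := hπ₁.2.2.1.1
    have ht' : RingHom.ker π₁.toAlgHom = Ideal.span {t} := ht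
    obtain ⟨u, hu⟩ := Ideal.mem_span_singleton'.1 (ht' ▸ hzk)
    have huu : IsUnit u := not_not.1 fun h => hzr (RingHom.mem_ker.2 (by
      show r z = 0
      rw [← hu]
      exact Ideal.mem_bot.1 (hπ₁.2.2.2 ▸ Ideal.mul_mem_mul ((IsLocalRing.mem_maximalIdeal u).2 h)
        (ht'.ge (Ideal.mem_span_singleton_self t)))))
    have hrs : Function.Surjective r := fun w => by
      obtain ⟨s, hs⟩ := hps (π₁ w)
      have hd : w - r s ∈ RingHom.ker π₁.toAlgHom := RingHom.mem_ker.2 (by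
        rw [map_sub, sub_eq_zero]
        show π₁ w = π₁ (r s)
        rw [← Art.comp_apply, hrp, hs])
      rw [ht'] at hd
      obtain ⟨v, hv⟩ := Ideal.mem_span_singleton'.1 hd
      obtain ⟨l, hl⟩ := hk (R₁.res (v * ↑huu.unit⁻¹))
      refine ⟨s + algebraMap Λ B l * z, ?_⟩
      rw [map_add, map_mul, AlgHom.commutes, ← sub_eq_zero, ← hu]
      have h4 : (algebraMap Λ R₁ l - v * ↑huu.unit⁻¹) * (u * t) = 0 :=
        Ideal.mem_bot.1 (hπ₁.2.2.2 ▸ Ideal.mul_mem_mul ((R₁.mem_maximalIdeal_iff _).2 (by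
          rw [map_sub, AlgHom.commutes, hl, sub_self])) (ht'.ge (Ideal.mem_span_singleton'.2 ⟨u, rfl⟩)))
      rw [sub_mul, mul_assoc v, ← mul_assoc ((↑huu.unit⁻¹ : (R₁ : Type u))) u t, IsUnit.val_inv_mul, one_mul, hv] at h4
      linear_combination h4
    have hJ' := ker_le_maximalIdeal r
    let e := Art.quotFactor hJ' r le_rfl
    have : IsIso e := isIso_of_bijective e ⟨(injective_iff_map_eq_zero e.toAlgHom).2 fun y hy => by
        obtain ⟨b, rfl⟩ := Art.quotMk_surjective B _ hJ' y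
        exact Ideal.Quotient.eq_zero_iff_mem.2 (RingHom.mem_ker.2 ((quotFactor_mk hJ' r le_rfl b).symm.trans hy)),
      fun y => by
        obtain ⟨s, rfl⟩ := hrs y
        exact ⟨Art.quotMk B _ hJ' s, quotFactor_mk hJ' r le_rfl _⟩⟩
    have hJ : RingHom.ker r.toAlgHom ≤ RingHom.ker p.toAlgHom := fun b hb => RingHom.mem_ker.2 (by
      rw [← hrp, Art.comp_toAlgHom, AlgHom.comp_apply, RingHom.mem_ker.1 hb, map_zero])
    exact hmin _ hJ hJ' ⟨F.map (inv e) a₁, by
      rw [show Art.quotFactor hJ' p hJ = e ≫ π₁ from hom_ext_of_surjective (Art.quotMk_surjective B _ hJ') (by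
        rw [← Category.assoc, Art.quotMk_quotFactor, Art.quotMk_quotFactor, hrp]), map_comp_app, map_app_inv, ha₁]⟩

end Groth.Agent.DefFun
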